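import Groth.Agent.Lib.CartierDescent.Algebra
import Groth.Agent.Lib.Cube.HeightOne
import Mathlib

/-!
# Factors of elements of a normal base in a flat local algebra
-/

set_option autoImplicit false
set_option backward.isDefEq.respectTransparency false
set_option linter.all false
set_option synthInstance.maxHeartbeats 200000

universe u

open IsLocalRing

noncomputable section

namespace GrothLib.LBDesc26

variable {A B : Type u} [CommRing A] [IsDomain A] [IsNoetherianRing A] [IsIntegrallyClosed A] [CommRing B]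
  [Algebra A B] [Module.Flat A B]

theorem mem_nzd {a : A} (ha : a ≠ 0) : algebraMap A B a ∈ nonZeroDivisors B := by
  rw [mem_nonZeroDivisors_iff_right]
  intro b hb
  have h : IsSMulRegular B a := Module.Flat.isSMulRegular_of_nonZeroDivisors (mem_nonZeroDivisors_of_ne_zero ha)
  refine h ?_
  show a • b = a • (0 : B)
  rw [Algebra.smul_def, mul_comm, hb, smul_zero]

omit [IsDomain A] [IsNoetherianRing A] [IsIntegrallyClosed A] [Module.Flat A B] in
theorem exists_mul_mem_of_mem_map {p : Ideal A} [p.IsPrime] {π : A}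
    (hπ : ∀ x ∈ p, ∃ u y : A, u ∉ p ∧ u * x = π * y) {b : B} (hb : b ∈ p.map (algebraMap A B)) :
    ∃ (u : A) (b₁ : B), u ∉ p ∧ algebraMap A B u * b = algebraMap A B π * b₁ := by
  induction hb using Submodule.span_induction with
  | mem b hb =>
    obtain ⟨x, hx, rfl⟩ := hb
    obtain ⟨u, y, hu, e⟩ := hπ x hx
    exact ⟨u, algebraMap A B y, hu, by rw [← map_mul, ← map_mul, e]⟩
  | zero => exact ⟨1, 0, fun h => ‹p.IsPrime›.one_notMem h, by simp⟩
  | add b b' _ _ ih ih' =>
    obtain ⟨u, b₁, hu, e⟩ := ih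
    obtain ⟨u', b₁', hu', e'⟩ := ih'
    refine ⟨u * u', algebraMap A B u' * b₁ + algebraMap A B u * b₁', fun h => (‹p.IsPrime›.mem_or_mem h).elim hu hu', ?_⟩
    rw [map_mul]
    linear_combination (algebraMap A B u') * e + (algebraMap A B u) * e'
  | smul r b _ ih =>
    obtain ⟨u, b₁, hu, e⟩ := ih
    exact ⟨u, r * b₁, hu, by rw [smul_eq_mul]; linear_combination r * e⟩

/-- The order of a factor of an element of the base along a height one prime. -/
theorem exists_order {p : Ideal A} [p.IsPrime] {π : A} (hπ0 : π ≠ 0) (hπp : π ∈ p)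
    (hπ : ∀ x ∈ p, ∃ u y : A, u ∉ p ∧ u * x = π * y)
    (hprime : (p.map (algebraMap A B)).IsPrime) :
    ∀ (N : ℕ) (e e' : B) (v : A), v ∉ p → e * e' = algebraMap A B (π ^ N * v) →
      ∃ (n : ℕ) (s : A), s ∉ p ∧ algebraMap A B (s * π ^ n) ∈ Ideal.span {e} ∧
        algebraMap A B s * e ∈ Ideal.span {algebraMap A B (π ^ n)} := by
  intro N
  induction N with
  | zero =>
    intro e e' v hv h
    refine ⟨0, v, hv, Ideal.mem_span_singleton'.2 ⟨e', ?_⟩, ?_⟩
    · rw [mul_comm, h, pow_zero, one_mul, mul_one]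
    · rw [pow_zero, map_one, Ideal.span_singleton_one]; trivial
  | succ N ih =>
    intro e e' v hv h
    have hm : e * e' ∈ p.map (algebraMap A B) :=
      h ▸ Ideal.mem_map_of_mem _ (p.mul_mem_right _ (Ideal.pow_mem_of_mem _ hπp _ N.succ_pos))
    have hreg := mem_nzd (B := B) hπ0
    rcases hprime.mem_or_mem hm with he | he
    · obtain ⟨u, e₁, hu, e₁e⟩ := exists_mul_mem_of_mem_map hπ he
      obtain ⟨n, s, hs, h1, h2⟩ := ih e₁ e' (u * v) (fun h => (‹p.IsPrime›.mem_or_mem h).elim hu hv) (by
        refine (mul_cancel_right_mem_nonZeroDivisors hreg).1 ?_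
        simp only [map_mul, map_pow] at h ⊢
        linear_combination (algebraMap A B u) * h - e' * e₁e)
      obtain ⟨c, hc⟩ := Ideal.mem_span_singleton'.1 h1
      obtain ⟨d, hd⟩ := Ideal.mem_span_singleton'.1 h2
      refine ⟨n + 1, s * u, fun h => (‹p.IsPrime›.mem_or_mem h).elim hs hu,
        Ideal.mem_span_singleton'.2 ⟨c * algebraMap A B u * algebraMap A B u, ?_⟩,
        Ideal.mem_span_singleton'.2 ⟨d, ?_⟩⟩
      · simp only [map_mul, map_pow, pow_succ] at hc ⊢
        linear_combination (c * algebraMap A B u) * e₁e + (algebraMap A B u * algebraMap A B π) * hc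
      · simp only [map_mul, map_pow, pow_succ] at hd ⊢
        linear_combination (algebraMap A B π) * hd - (algebraMap A B s) * e₁e
    · obtain ⟨u, e₁, hu, e₁e⟩ := exists_mul_mem_of_mem_map hπ he
      exact ih e e₁ (u * v) (fun h => (‹p.IsPrime›.mem_or_mem h).elim hu hv) (by
        refine (mul_cancel_right_mem_nonZeroDivisors hreg).1 ?_
        simp only [map_mul, map_pow] at h ⊢
        linear_combination (algebraMap A B u) * h - e * e₁e)

theorem hasPairAt_of_one_lt {p : Ideal A} [p.IsPrime] (hp : 1 < p.height) : CartierDescent.HasPairAt p := by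
  obtain ⟨x, hx, hx0⟩ := Submodule.exists_mem_ne_zero_of_ne_bot (p := p) (fun h => by
    subst h; simp [Ideal.height_bot] at hp)
  let N := A ⧸ Ideal.span {x}
  let S := (associatedPrimes.finite A N).toFinset
  have hnot : ¬ ((p : Set A) ⊆ ⋃ P ∈ (↑S : Set (Ideal A)), (P : Set A)) := by
    intro hsub
    obtain ⟨P, hP, hle⟩ := (Ideal.subset_union_prime (f := fun P : Ideal A => P) ⊥ ⊥ (s := S)
      (fun P hP _ _ => (((associatedPrimes.finite A N).mem_toFinset.1 hP)).isPrime)).1 hsub
    have h1 := NormalSerre.height_eq_one_of_mem_associatedPrimes hx0 ((associatedPrimes.finite A N).mem_toFinset.1 hP)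
    exact absurd (h1 ▸ (Ideal.height_mono hle)) (not_le.2 hp)
  obtain ⟨y, hy, hyn⟩ := Set.not_subset.1 hnot
  refine ⟨x, y, hx, hy, fun b hb => ⟨1, fun h => ‹p.IsPrime›.one_notMem h, by
    rw [one_mul]; exact (mul_eq_zero.1 hb).resolve_left hx0⟩, fun a b hab => ⟨1, fun h => ‹p.IsPrime›.one_notMem h, ?_⟩⟩
  rw [one_mul, ← Ideal.Quotient.eq_zero_iff_mem]
  by_contra h
  obtain ⟨P, hP, hle⟩ := exists_le_isAssociatedPrime_of_isNoetherianRing A (Ideal.Quotient.mk (Ideal.span {x}) a : N) h
  refine hyn (Set.mem_iUnion₂.2 ⟨P, (associatedPrimes.finite A N).mem_toFinset.2 (AssociatedPrimes.mem_iff.2 hP), hle ?_⟩)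
  rw [Submodule.mem_colon_singleton, Submodule.mem_bot]
  show Ideal.Quotient.mk _ (y * a) = 0
  rw [Ideal.Quotient.eq_zero_iff_mem, hab]
  exact Ideal.mul_mem_right _ _ (Ideal.mem_span_singleton_self x)

/-- A factor of an element of the base is an element of the base up to a unit. -/
theorem exists_eq_mul_unit [IsLocalRing A] [IsLocalRing B] [IsNoetherianRing B] [IsLocalHom (algebraMap A B)]
    (hprime : ∀ p : Ideal A, p.IsPrime → p.height = 1 → (p.map (algebraMap A B)).IsPrime)
    {e e' : B} {d : A} (hd : d ≠ 0) (h : e * e' = algebraMap A B d) :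
    ∃ (a : A) (w : B), a ≠ 0 ∧ IsUnit w ∧ e = algebraMap A B a * w := by
  have hed : e * e' ∈ nonZeroDivisors B := h ▸ mem_nzd hd
  have he : e ∈ nonZeroDivisors B := (mul_mem_nonZeroDivisors.1 hed).1
  let g : Unit → B := fun _ => e
  have hdp : ∀ p : Ideal A, p.IsPrime →
      CartierDescent.HasPairAt p ∨ CartierDescent.IsPrincipalAt (B := fun _ : Unit => B) g p := by
    intro p hp
    by_cases hp0 : p = ⊥
    · subst hp0
      refine Or.inr ⟨1, fun _ => ⟨⟨d, fun hm => hd ((Submodule.mem_bot _).1 hm),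
        Ideal.mem_span_singleton'.2 ⟨e', by rw [mul_one, mul_comm]; exact h⟩⟩,
        ⟨1, fun hm => one_ne_zero ((Submodule.mem_bot _).1 hm), by rw [map_one, Ideal.span_singleton_one]; trivial⟩⟩⟩
    by_cases h1 : p.height = 1
    · obtain ⟨π, hπp, hπ0, hord, hgen⟩ := Cube.exists_uniformiser h1
      obtain ⟨N, u, v, hu, hv, huv⟩ := hord d hd
      obtain ⟨n, s, hs, hs1, hs2⟩ := exists_order hπ0 hπp hgen (hprime p hp h1) N
        (e * algebraMap A B u) e' v hv (by
          simp only [map_mul, map_pow]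
          have := congrArg (algebraMap A B) huv
          simp only [map_mul, map_pow] at this
          linear_combination (algebraMap A B u) * h + this)
      obtain ⟨c, hc⟩ := Ideal.mem_span_singleton'.1 hs1
      obtain ⟨c', hc'⟩ := Ideal.mem_span_singleton'.1 hs2
      refine Or.inr ⟨π ^ n, fun _ => ⟨⟨s, hs, Ideal.mem_span_singleton'.2 ⟨c * algebraMap A B u, by
          show c * algebraMap A B u * e = _
          rw [← hc]; ring⟩⟩, ⟨s * u, fun hm => (hp.mem_or_mem hm).elim hs hu,
          Ideal.mem_span_singleton'.2 ⟨c', by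
            show c' * algebraMap A B (π ^ n) = algebraMap A B (s * u) * e
            rw [hc', map_mul]; ring⟩⟩⟩⟩
    · refine Or.inl (hasPairAt_of_one_lt (lt_of_le_of_ne ?_ (Ne.symm h1)))
      rw [Order.one_le_iff_pos, pos_iff_ne_zero]
      intro h0
      refine hp0 (le_bot_iff.1 ?_)
      have := Ideal.mem_minimalPrimes_of_height_eq (I := (⊥ : Ideal A)) (J := p) bot_le (by rw [h0]; exact zero_le)
      rw [Ideal.minimalPrimes_eq_subsingleton_self] at this
      exact this.le
  have hg : ∀ j : Unit, g j ∈ nonZeroDivisors B := fun _ => he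
  obtain ⟨s, a, hs, ha, hgen, -⟩ := CartierDescent.exists_generator g hg hdp () (maximalIdeal B)
  have hsu : IsUnit (algebraMap A B s) := notMem_maximalIdeal.1 hs
  have hmem := CartierDescent.mem_map_famIdeal g hg hdp ()
  have hle : (CartierDescent.famIdeal g).map (algebraMap A B) ≤ Ideal.span {algebraMap A B a} := by
    rw [Ideal.map_le_iff_le_comap]
    intro i hi
    rw [Ideal.mem_comap, ← Ideal.unit_mul_mem_iff_mem _ hsu, ← map_mul]
    have := Ideal.mem_map_of_mem (algebraMap A B) (hgen i hi)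
    rwa [Ideal.map_span, Set.image_singleton] at this
  obtain ⟨w, hw⟩ := Ideal.mem_span_singleton'.1 (hle hmem)
  obtain ⟨c, hc⟩ := Ideal.mem_span_singleton'.1 ((CartierDescent.mem_famIdeal g).1 ha ())
  change w * algebraMap A B a = e at hw
  change c * e = algebraMap A B a at hc
  refine ⟨a, w, ?_, IsUnit.of_mul_eq_one c ?_, by rw [mul_comm, hw]⟩
  · rintro rfl
    rw [map_zero, mul_zero] at hw
    exact nonZeroDivisors.ne_zero he hw.symm
  · refine (mul_cancel_right_mem_nonZeroDivisors he).1 ?_
    rw [mul_assoc, hc, hw, one_mul]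

/-- An element of the base dividing another in a faithfully flat local algebra divides it. -/
theorem dvd_of_dvd_map [IsLocalRing A] [IsLocalRing B] [IsLocalHom (algebraMap A B)] {a b : A}
    (h : algebraMap A B b ∣ algebraMap A B a) : b ∣ a := by
  haveI : Module.FaithfullyFlat A B := Module.FaithfullyFlat.of_flat_of_isLocalHom
  have h1 : a ∈ ((Ideal.span {b}).map (algebraMap A B)).comap (algebraMap A B) := by
    rw [Ideal.mem_comap, Ideal.map_span, Set.image_singleton]
    exact Ideal.mem_span_singleton.2 h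
  rw [Ideal.comap_map_eq_self_of_faithfullyFlat] at h1
  exact Ideal.mem_span_singleton.1 h1

end GrothLib.LBDesc26
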