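import Groth.Agent.Lib.CartierDescent.Normal
import Groth.Agent.Lib.Cube.Mod
import Mathlib

/-!
# Points over maximal points of a normal base
-/

set_option autoImplicit false
set_option backward.isDefEq.respectTransparency false
set_option backward.isDefEq.respectTransparency.types false
set_option linter.all false
set_option synthInstance.maxHeartbeats 200000

universe u

open CategoryTheory AlgebraicGeometry TopologicalSpace IsLocalRing
open GrothLib.CartierDescent

noncomputable section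

namespace GrothLib.LBDesc26

variable {X Y : Scheme.{u}}

/-- A maximal point. -/
def IsMax (η : Y) : Prop := ∀ z : Y, z ⤳ η → z = η

theorem fromSpecStalk_eq {x' x : X} (h : x' ⤳ x) (Q : Ideal (X.presheaf.stalk x)) (hQ : Q.IsPrime)
    (e : Q = (maximalIdeal (X.presheaf.stalk x')).comap (X.presheaf.stalkSpecializes h).hom) :
    X.fromSpecStalk x ⟨Q, hQ⟩ = x' := by
  subst e
  change X.fromSpecStalk x (Spec.map (X.presheaf.stalkSpecializes h) (closedPoint _)) = x'
  rw [← Scheme.Hom.comp_apply, Scheme.SpecMap_stalkSpecializes_fromSpecStalk, Scheme.fromSpecStalk_closedPoint]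

theorem stalkSpecializes_injective {y' y : Y} [IsDomain (Y.presheaf.stalk y)] (h : y' ⤳ y) :
    Function.Injective (Y.presheaf.stalkSpecializes h).hom := by
  rw [injective_iff_map_eq_zero]
  intro d hd
  obtain ⟨u, hu, hud⟩ := exists_of_mem_span_stalkSpecializes h (b := d) (c := 0)
    (by rw [map_zero, Ideal.mem_span_singleton]; exact hd ▸ dvd_refl _)
  rw [Ideal.span_singleton_eq_bot.2 rfl, Submodule.mem_bot] at hud
  exact (mul_eq_zero.1 hud).resolve_left fun h0 => hu (h0 ▸ Submodule.zero_mem _)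

variable (hY : Pi1.IsNormalScheme Y)

include hY in
theorem comap_eq_bot {η : Y} (hη : IsMax η) {y : Y} (h : η ⤳ y) :
    (maximalIdeal (Y.presheaf.stalk η)).comap (Y.presheaf.stalkSpecializes h).hom = ⊥ := by
  haveI := (hY y).1
  haveI := (hY η).1
  rw [isField_iff_maximalIdeal_eq.1 (isField_stalk_of_maximal hη), eq_bot_iff]
  intro d hd
  exact Ideal.mem_bot.2 (stalkSpecializes_injective h ((Ideal.mem_bot.1 (Ideal.mem_comap.1 hd)).trans (map_zero _).symm))

include hY in
theorem isUnit_max {η : Y} (hη : IsMax η) {y : Y} (h : η ⤳ y) {d : Y.presheaf.stalk y} (hd : d ≠ 0) :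
    IsUnit ((Y.presheaf.stalkSpecializes h).hom d) :=
  notMem_maximalIdeal.1 fun hm => hd (by
    have : d ∈ (maximalIdeal (Y.presheaf.stalk η)).comap (Y.presheaf.stalkSpecializes h).hom := hm
    rwa [comap_eq_bot hY hη h, Ideal.mem_bot] at this)

include hY in
theorem eq_max {η : Y} (hη : IsMax η) {w y : Y} (h : η ⤳ y) (hw : w ⤳ y)
    (hu : ∀ d : Y.presheaf.stalk y, d ≠ 0 → IsUnit ((Y.presheaf.stalkSpecializes hw).hom d)) : w = η := by
  haveI := (hY y).1
  have e : (maximalIdeal (Y.presheaf.stalk w)).comap (Y.presheaf.stalkSpecializes hw).hom = ⊥ :=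
    eq_bot_iff.2 fun d hd => (Submodule.mem_bot _).2 (by
      by_contra h0
      exact notMem_maximalIdeal.2 (hu d h0) hd)
  exact (fromSpecStalk_eq hw ⊥ Ideal.isPrime_bot e.symm).symm.trans
    (fromSpecStalk_eq h ⊥ Ideal.isPrime_bot (comap_eq_bot hY hη h).symm)

include hY in
theorem max_unique {η η' y : Y} (hη : IsMax η) (hη' : IsMax η') (h : η ⤳ y) (h' : η' ⤳ y) : η' = η :=
  eq_max hY hη h h' fun d hd => isUnit_max hY hη' h' hd

include hY in
theorem exists_max (y : Y) : ∃ η : Y, IsMax η ∧ η ⤳ y := by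
  haveI := (hY y).1
  obtain ⟨η, h, he, hη⟩ := exists_specializes_eq y (⊥ : Ideal (Y.presheaf.stalk y))
  refine ⟨η, fun z hz => ?_, h⟩
  obtain ⟨q, hq⟩ : z ∈ Set.range (Y.fromSpecStalk y) := by rw [Scheme.range_fromSpecStalk]; exact hz.trans h
  have hs : q ⤳ (⟨⊥, Ideal.isPrime_bot⟩ : Spec (Y.presheaf.stalk y)) :=
    (Y.fromSpecStalk y).isEmbedding.isInducing.specializes_iff.1 (by rw [hq, ← hη]; exact hz)
  have hq0 : q.asIdeal = ⊥ := le_bot_iff.1 ((PrimeSpectrum.le_iff_specializes q _).2 hs)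
  have hq1 : q = (⟨⊥, Ideal.isPrime_bot⟩ : Spec (Y.presheaf.stalk y)) := PrimeSpectrum.ext hq0
  rw [← hq, hη, hq1]

include hY in
theorem exists_nhds_max [IsLocallyNoetherian Y] {η y : Y} (hη : IsMax η) (h : η ⤳ y) :
    ∃ W : Y.Opens, y ∈ W ∧ ∀ p ∈ W, η ⤳ p := by
  obtain ⟨U, hyU, -⟩ := GrothLib.BlowUp.exists_affine_mem_le (W := (⊤ : Y.Opens)) (x := y) trivial
  haveI : IsNoetherianRing Γ(Y, U.1) := IsLocallyNoetherian.component_noetherian U
  haveI : NoetherianSpace U.1 := by
    haveI : NoetherianSpace (Spec Γ(Y, U.1)) := inferInstanceAs (NoetherianSpace (PrimeSpectrum Γ(Y, U.1)))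
    exact (noetherianSpace_of_isAffineOpen U.1 U.2)
  let 𝒮 := irreducibleComponents U.1
  have hfin : 𝒮.Finite := NoetherianSpace.finite_irreducibleComponents
  let T : Set U.1 := ⋃ C ∈ {C ∈ 𝒮 | (⟨y, hyU⟩ : U.1) ∉ C}, C
  have hT : IsClosed T := (hfin.subset fun C hC => hC.1).isClosed_biUnion fun C hC =>
    isClosed_of_mem_irreducibleComponents C hC.1
  refine ⟨⟨Subtype.val '' Tᶜ, U.1.2.isOpenMap_subtype_val _ hT.isOpen_compl⟩, ⟨⟨y, hyU⟩, fun hm => ?_, rfl⟩, ?_⟩
  · obtain ⟨C, hC, hyC⟩ := Set.mem_iUnion₂.1 hm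
    exact hC.2 hyC
  · rintro _ ⟨p, hp, rfl⟩
    obtain ⟨C, hC, hpC⟩ := Set.mem_sUnion.1 ((sUnion_irreducibleComponents (X := U.1)).symm ▸ Set.mem_univ p)
    have hyC : (⟨y, hyU⟩ : U.1) ∈ C := by
      by_contra hn
      exact hp (Set.mem_iUnion₂.2 ⟨C, ⟨hC, hn⟩, hpC⟩)
    obtain ⟨g, hg⟩ := QuasiSober.sober hC.1 (isClosed_of_mem_irreducibleComponents C hC)
    have hgy : g.1 ⤳ y := (hg.specializes hyC).map continuous_subtype_val
    obtain ⟨η', hη', hg'⟩ := exists_max hY g.1
    obtain rfl := max_unique hY hη hη' h (hg'.trans hgy)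
    exact hg'.trans ((hg.specializes hpC).map continuous_subtype_val)

variable {f : X ⟶ Y}

/-- The value at a point over a maximal point of an element of its local field. -/
abbrev phi (f : X ⟶ Y) (η : Y) {z : X} (hz : f z = η) : Y.presheaf.stalk η →+* X.presheaf.stalk z :=
  (Y.presheaf.stalkSpecializes (specializes_of_eq hz) ≫ f.stalkMap z).hom

theorem phi_specializes {η : Y} {z x : X} (hz : f z = η) (h : z ⤳ x) (hη : η ⤳ f x)
    (d : Y.presheaf.stalk (f x)) :
    phi f η hz ((Y.presheaf.stalkSpecializes hη).hom d) =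
      (X.presheaf.stalkSpecializes h).hom ((f.stalkMap x).hom d) := by
  subst hz
  exact ((congrArg (f.stalkMap z).hom
    (TopCat.Presheaf.stalkSpecializes_comp_apply Y.presheaf (specializes_of_eq rfl) hη d))).trans
    (Scheme.Hom.stalkSpecializes_stalkMap_apply f z x h d)

theorem germ_appLE {W : Y.Opens} {P : X.Opens} (e : P ≤ f ⁻¹ᵁ W) {x : X} (hx : x ∈ P) (a : Γ(Y, W)) :
    (f.stalkMap x).hom (Y.presheaf.germ W (f x) (e hx) a) = X.presheaf.germ P x hx ((f.appLE W P e).hom a) := by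
  change _ = X.presheaf.germ P x hx ((X.presheaf.map (homOfLE e).op) (f.app W a))
  rw [TopCat.Presheaf.germ_res_apply]
  exact Scheme.Hom.germ_stalkMap_apply f W x (e hx) a

theorem germ_phi {η : Y} {W : Y.Opens} {P : X.Opens} (e : P ≤ f ⁻¹ᵁ W) {z : X} (hz : f z = η) (hzP : z ∈ P)
    (hW : η ∈ W) (a : Γ(Y, W)) :
    phi f η hz (Y.presheaf.germ W η hW a) = X.presheaf.germ P z hzP ((f.appLE W P e).hom a) := by
  subst hz
  rw [← germ_appLE e hzP]
  exact congrArg (f.stalkMap z).hom (TopCat.Presheaf.germ_stalkSpecializes_apply _ hW (specializes_of_eq rfl) a)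

include hY in
theorem mem_nzd_stalk [Flat f] {x : X} {d : Y.presheaf.stalk (f x)} (hd : d ≠ 0) :
    (f.stalkMap x).hom d ∈ nonZeroDivisors (X.presheaf.stalk x) :=
  haveI := (hY (f x)).1
  GrothLib.BlowUp.mem_nonZeroDivisors_of_flat (f.stalkMap x).hom (Flat.stalkMap f x)
    (mem_nonZeroDivisors_of_ne_zero hd)

include hY in
/-- The prime of a local ring over a maximal point. -/
theorem exists_over_max [IsLocallyNoetherian X] [Flat f] {η : Y} (hη : IsMax η) {x : X} (h : η ⤳ f x)
    {a : X.presheaf.stalk x} (ha : a ≠ 0) :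
    ∃ (z : X) (hzx : z ⤳ x), f z = η ∧ (X.presheaf.stalkSpecializes hzx).hom a ≠ 0 := by
  obtain ⟨Q, hQ, hle⟩ := exists_le_isAssociatedPrime_of_isNoetherianRing (X.presheaf.stalk x) a ha
  haveI := hQ.isPrime
  obtain ⟨z, hzx, hQz, -⟩ := exists_specializes_eq x Q
  refine ⟨z, hzx, eq_max hY hη h (hzx.map f.continuous) fun d hd => notMem_maximalIdeal.1 fun hm => ?_, fun h0 => ?_⟩
  · have hd' : (f.stalkMap x).hom d ∈ Q := by
      rw [hQz, Ideal.mem_comap, ← Scheme.Hom.stalkSpecializes_stalkMap_apply f z x hzx d]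
      exact (mem_maximalIdeal _).2 fun hu =>
        (mem_maximalIdeal _).1 hm (isUnit_of_map_unit (f.stalkMap z).hom _ hu)
    obtain ⟨-, w, hw⟩ := isAssociatedPrime_iff.1 hQ
    have hw0 : w ≠ 0 := fun e => hQ.1.ne_top (eq_top_iff.2 fun r _ => by
      rw [hw, Submodule.mem_colon_singleton, Submodule.mem_bot, e, smul_zero])
    rw [hw, Submodule.mem_colon_singleton, Submodule.mem_bot, smul_eq_mul, mul_comm] at hd'
    have hn := mem_nzd_stalk (f := f) hY (x := x) (d := d) hd
    exact hw0 (mem_nonZeroDivisors_iff_right.1 hn w hd')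
  · obtain ⟨u, hu, hua⟩ := exists_of_mem_span_stalkSpecializes hzx (b := a) (c := 0)
      (show (X.presheaf.stalkSpecializes hzx).hom a ∈ Ideal.span {(X.presheaf.stalkSpecializes hzx).hom 0} by
        rw [h0]; exact Submodule.zero_mem _)
    refine hu (hQz ▸ hle ?_)
    rw [Ideal.span_singleton_eq_bot.2 rfl, Submodule.mem_bot] at hua
    rw [Submodule.mem_colon_singleton, Submodule.mem_bot]
    exact hua

include hY in
/-- Elements of a local ring agree if they agree at the points over the maximal point. -/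
theorem eq_of_over_max [IsLocallyNoetherian X] [Flat f] {η : Y} (hη : IsMax η) {x : X} (h : η ⤳ f x)
    {a b : X.presheaf.stalk x}
    (hab : ∀ (z : X) (hzx : z ⤳ x), f z = η →
      (X.presheaf.stalkSpecializes hzx).hom a = (X.presheaf.stalkSpecializes hzx).hom b) : a = b := by
  by_contra hne
  obtain ⟨z, hzx, hz, h0⟩ := exists_over_max hY hη h (sub_ne_zero.2 hne)
  exact h0 (by rw [map_sub, hab z hzx hz, sub_self])

include hY in
/-- Sections agree if their germs agree at the points over the maximal point. -/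
theorem section_ext [IsLocallyNoetherian X] [Flat f] {η : Y} (hη : IsMax η) {V : X.Opens}
    (hV : ∀ x ∈ V, η ⤳ f x) {a b : Γ(X, V)}
    (hab : ∀ (z : X) (hzV : z ∈ V), f z = η → X.presheaf.germ V z hzV a = X.presheaf.germ V z hzV b) : a = b := by
  refine TopCat.Presheaf.section_ext X.sheaf V _ _ fun x hx => ?_
  refine eq_of_over_max hY hη (hV x hx) fun z hzx hz => ?_
  have hzV : z ∈ V := hzx.mem_open V.2 hx
  refine (TopCat.Presheaf.germ_stalkSpecializes_apply _ hx hzx a).trans ?_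
  refine (hab z hzV hz).trans ?_
  exact (TopCat.Presheaf.germ_stalkSpecializes_apply _ hx hzx b).symm

end GrothLib.LBDesc26
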