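import Groth.Agent.Lib.LBDesc26.Basic

/-!
# Common denominators of families of germs over a maximal point
-/

set_option autoImplicit false
set_option backward.isDefEq.respectTransparency false
set_option backward.isDefEq.respectTransparency.types false
set_option linter.all false
set_option synthInstance.maxHeartbeats 200000

universe u

open CategoryTheory AlgebraicGeometry TopologicalSpace IsLocalRing
open GrothLib.CartierDescent

noncomputable section

namespace GrothLib.LBDesc26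

variable {X Y : Scheme.{u}} {f : X ⟶ Y} {η : Y}

/-- A locally representable family of germs over `η` has a denominator from the base. -/
theorem exists_den (hY : Pi1.IsNormalScheme Y) [IsLocallyNoetherian X] [Flat f] (hη : IsMax η)
    {W : Y.Opens} (hW : IsAffineOpen W) (hηW : η ∈ W) (hWη : ∀ p ∈ W, η ⤳ p)
    {P : X.Opens} (hP : IsAffineOpen P) (e : P ≤ f ⁻¹ᵁ W)
    (t : ∀ z : X, f z = η → z ∈ P → X.presheaf.stalk z)
    (rep : ∀ (z : X) (hz : f z = η) (hi : z ∈ P), ∃ (G : X.Opens) (w : Γ(X, G)), z ∈ G ∧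
      ∀ (z' : X) (h : z' ∈ G) (hz' : f z' = η) (hi' : z' ∈ P), X.presheaf.germ G z' h w = t z' hz' hi') :
    ∃ (d : Γ(Y, W)) (b : Γ(X, P)), IsUnit (Y.presheaf.germ W η hηW d) ∧
      ∀ (z : X) (hz : f z = η) (hzP : z ∈ P),
        X.presheaf.germ P z hzP b = X.presheaf.germ P z hzP ((f.appLE W P e).hom d) * t z hz hzP := by
  classical
  let J : Ideal Γ(X, P) :=
    { carrier := {a | ∃ b : Γ(X, P), ∀ (z : X) (hz : f z = η) (hzP : z ∈ P),
        X.presheaf.germ P z hzP b = X.presheaf.germ P z hzP a * t z hz hzP}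
      add_mem' := fun {a a'} ha ha' => by
        obtain ⟨b, hb⟩ := ha
        obtain ⟨b', hb'⟩ := ha'
        exact ⟨b + b', fun z hz hzP => by rw [map_add, map_add, hb z hz hzP, hb' z hz hzP, add_mul]⟩
      zero_mem' := ⟨0, fun z hz hzP => by rw [map_zero, zero_mul]⟩
      smul_mem' := fun r a ha => by
        obtain ⟨b, hb⟩ := ha
        exact ⟨r * b, fun z hz hzP => by rw [smul_eq_mul, map_mul, map_mul, hb z hz hzP, mul_assoc]⟩ }
  let φ := (f.appLE W P e).hom
  let S : Submonoid Γ(X, P) := ((IsUnit.submonoid (Y.presheaf.stalk η)).comap (Y.presheaf.germ W η hηW).hom).map φ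
  by_contra hcon
  have hdisj : Disjoint (J : Set Γ(X, P)) S := by
    rw [Set.disjoint_left]
    rintro a ⟨b, hb⟩ ⟨d, hd, rfl⟩
    exact hcon ⟨d, b, hd, hb⟩
  obtain ⟨Q, hQ, hJQ, hQS⟩ := Ideal.exists_le_prime_disjoint J S hdisj
  haveI := hQ
  obtain ⟨z, hzP, hzQ⟩ := exists_primeIdealOf_eq hP Q
  have hz : f z = η := by
    refine hη _ (specializes_of_primeIdealOf_le hW hηW (e hzP) ?_)
    rw [← comap_primeIdealOf f hW hP e hzP, hzQ]
    intro d hd
    by_contra hdn
    refine Set.disjoint_left.1 hQS hd ⟨d, ?_, rfl⟩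
    let _ := TopCat.Presheaf.algebra_section_stalk Y.presheaf (⟨η, hηW⟩ : W)
    haveI := hW.isLocalization_stalk ⟨η, hηW⟩
    exact IsLocalization.map_units (Y.presheaf.stalk η) (⟨d, hdn⟩ : (hW.primeIdealOf ⟨η, hηW⟩).asIdeal.primeCompl)
  -- a basic open around `z` carrying a representative
  obtain ⟨G, w, hzG, hw⟩ := rep z hz hzP
  obtain ⟨b, hbG, hzb⟩ := hP.exists_basicOpen_le ⟨z, hzG⟩ hzP
  have hbQ : b ∉ Q := fun hb => by
    have hu := (X.mem_basicOpen b z hzP).1 hzb
    let _ := TopCat.Presheaf.algebra_section_stalk X.presheaf (⟨z, hzP⟩ : P)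
    haveI := hP.isLocalization_stalk ⟨z, hzP⟩
    exact ((IsLocalization.AtPrime.isUnit_to_map_iff (X.presheaf.stalk z) _ b).1 hu) (hzQ ▸ hb)
  let _ : Algebra Γ(X, P) Γ(X, X.basicOpen b) := (X.presheaf.map (homOfLE (X.basicOpen_le b)).op).hom.toAlgebra
  haveI : IsLocalization.Away b Γ(X, X.basicOpen b) := hP.isLocalization_basicOpen b
  obtain ⟨⟨e₀, ⟨_, n, rfl⟩⟩, he₀⟩ := IsLocalization.surj (Submonoid.powers b)
    (X.presheaf.map (homOfLE hbG).op w)
  have hb0 : ∀ (z' : X) (h : z' ∈ X.basicOpen b) (hz' : f z' = η),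
      X.presheaf.germ P z' (X.basicOpen_le b h) e₀ =
        X.presheaf.germ P z' (X.basicOpen_le b h) (b ^ n) * t z' hz' (X.basicOpen_le b h) := by
    intro z' h hz'
    have := congrArg (X.presheaf.germ (X.basicOpen b) z' h).hom he₀
    simp only [map_mul, RingHom.algebraMap_toAlgebra, TopCat.Presheaf.germ_res_apply] at this
    rw [hw z' (hbG h) hz' (X.basicOpen_le b h)] at this
    rw [← this, mul_comm]
  -- compactness of the points over `η`
  haveI : NoetherianSpace P := by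
    haveI : IsNoetherianRing Γ(X, P) := IsLocallyNoetherian.component_noetherian ⟨P, hP⟩
    exact noetherianSpace_of_isAffineOpen P hP
  let E : Set P := {p | f p.1 = η}
  have hloc : ∀ p : P, f p.1 = η → ∃ (G' : X.Opens) (hG' : G' ≤ P), IsAffineOpen G' ∧ p.1 ∈ G' ∧
      ∃ M : ℕ, ∀ (z' : X) (h : z' ∈ G') (hz' : f z' = η),
        X.presheaf.germ P z' (hG' h) (b ^ (M + n)) * t z' hz' (hG' h) =
          X.presheaf.germ P z' (hG' h) (b ^ M * e₀) := by
    intro p hp
    obtain ⟨G₁, w₁, hpG₁, hw₁⟩ := rep p.1 hp p.2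
    obtain ⟨G', hpG', hG'le⟩ := GrothLib.BlowUp.exists_affine_mem_le (W := G₁ ⊓ P) (x := p.1) ⟨hpG₁, p.2⟩
    have hG'₁ : G'.1 ≤ G₁ := hG'le.trans inf_le_left
    have hG' : G'.1 ≤ P := hG'le.trans inf_le_right
    let r := X.presheaf.map (homOfLE hG').op
    let w' : Γ(X, G'.1) := X.presheaf.map (homOfLE hG'₁).op w₁
    let δ : Γ(X, G'.1) := r (b ^ n) * w' - r e₀
    let b' : Γ(X, G'.1) := r b
    have hδ : (X.presheaf.map (homOfLE (X.basicOpen_le b')).op) δ = 0 := by
      refine section_ext hY hη (fun x hx => hWη _ (e (hG' (X.basicOpen_le b' hx)))) fun z' h hz' => ?_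
      have hb' : z' ∈ X.basicOpen b := by
        have := X.basicOpen_res b (homOfLE hG').op
        exact (this.le h).2
      rw [map_zero, TopCat.Presheaf.germ_res_apply]
      simp only [δ, w', r, map_sub, map_mul, TopCat.Presheaf.germ_res_apply]
      rw [hw₁ z' (hG'₁ (X.basicOpen_le b' h)) hz' (hG' (X.basicOpen_le b' h)), hb0 z' hb' hz', sub_self]
    let _ : Algebra Γ(X, G'.1) Γ(X, X.basicOpen b') := (X.presheaf.map (homOfLE (X.basicOpen_le b')).op).hom.toAlgebra
    haveI : IsLocalization.Away b' Γ(X, X.basicOpen b') := G'.2.isLocalization_basicOpen b'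
    obtain ⟨⟨_, M, rfl⟩, hM⟩ := (IsLocalization.map_eq_zero_iff (Submonoid.powers b') Γ(X, X.basicOpen b') δ).1 hδ
    refine ⟨G'.1, hG', G'.2, hpG', M, fun z' h hz' => ?_⟩
    have := congrArg (X.presheaf.germ G'.1 z' h).hom hM
    simp only [δ, b', w', r, map_mul, map_sub, map_pow, map_zero, TopCat.Presheaf.germ_res_apply,
      hw₁ z' (hG'₁ h) hz' (hG' h), mul_sub, sub_eq_zero] at this
    simp only [map_mul, map_pow, pow_add]
    rw [mul_assoc]
    exact this
  choose G' hG' hG'a hpG' M hM using hloc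
  obtain ⟨F, hF⟩ := (NoetherianSpace.isCompact E).elim_finite_subcover
    (fun p : E => (Subtype.val ⁻¹' (G' p.1 p.2 : Set X) : Set P))
    (fun p => (G' p.1 p.2).2.preimage continuous_subtype_val)
    (fun p hp => Set.mem_iUnion.2 ⟨⟨p, hp⟩, hpG' p hp⟩)
  let N := F.sup fun p => M p.1 p.2
  refine hbQ (hQ.mem_of_pow_mem (N + n) (hJQ ⟨b ^ N * e₀, fun z' hz' hz'P => ?_⟩))
  obtain ⟨p, hpF, hz'p⟩ := Set.mem_iUnion₂.1 (hF (show (⟨z', hz'P⟩ : P) ∈ E from hz'))
  have hle : M p.1 p.2 ≤ N := Finset.le_sup (f := fun p : E => M p.1 p.2) hpF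
  obtain ⟨k, hk⟩ := Nat.exists_eq_add_of_le hle
  have := hM p.1 p.2 z' hz'p hz'
  simp only [map_mul, map_pow] at this ⊢
  rw [show N = M p.1 p.2 + k from hk, pow_add, pow_add, pow_add]
  rw [pow_add] at this
  linear_combination -(X.presheaf.germ P z' hz'P b) ^ k * this

end GrothLib.LBDesc26
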