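import Groth.Agent.Lib.LBDesc26.Basic
import Groth.Agent.Lib.Cube.Pic

/-!
# Trivialisations of a cocycle over a maximal point
-/

set_option autoImplicit false
set_option backward.isDefEq.respectTransparency false
set_option backward.isDefEq.respectTransparency.types false
set_option linter.all false
set_option synthInstance.maxHeartbeats 200000

universe u

open CategoryTheory AlgebraicGeometry TopologicalSpace IsLocalRing
open GrothLib.CartierDescent GrothLib.Ample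

noncomputable section

namespace GrothLib.LBDesc26

variable {X Y : Scheme.{u}} {f : X ⟶ Y} {c : Cocycle X} {η : Y}

variable (f c η) in
/-- A trivialisation of a cocycle over the points above `η`. -/
structure Frame where
  /-- the value -/
  t : ∀ (i : c.ι) (z : X), f z = η → z ∈ c.D i → X.presheaf.stalk z
  isUnit : ∀ i z hz hi, IsUnit (t i z hz hi)
  compat : ∀ (i j : c.ι) (z : X) (hz : f z = η) (hi : z ∈ c.D i) (hj : z ∈ c.D j),
    t i z hz hi = X.presheaf.germ (c.D i ⊓ c.D j) z ⟨hi, hj⟩ (c.g i j) * t j z hz hj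
  rep : ∀ (i : c.ι) (z : X) (hz : f z = η) (hi : z ∈ c.D i),
    ∃ (G : X.Opens) (w : Γ(X, G)), z ∈ G ∧ ∀ (z' : X) (h : z' ∈ G) (hz' : f z' = η) (hi' : z' ∈ c.D i),
      X.presheaf.germ G z' h w = t i z' hz' hi'

theorem germ_res {V W : X.Opens} (h : W ≤ V) {x : X} (hx : x ∈ W) (a : Γ(X, V)) :
    X.presheaf.germ W x hx (res h a) = X.presheaf.germ V x (h hx) a :=
  TopCat.Presheaf.germ_res_apply _ _ _ hx a

theorem bijective_fiberι_stalkMap (hY : Pi1.IsNormalScheme Y) (hη : IsMax η) (q : f.fiber η) :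
    Function.Bijective ((f.fiberι η).stalkMap q).hom := by
  obtain ⟨hsur, hker⟩ := GrothLib.FibreFlat.fiberι_stalkMap f η q
  refine ⟨(RingHom.injective_iff_ker_eq_bot _).2 ?_, hsur⟩
  have e : f (f.fiberι η q) = η := GrothLib.FibreFlat.fiberι_comp_apply f η q
  haveI := (hY (f (f.fiberι η q))).1
  rw [hker, isField_iff_maximalIdeal_eq.1 (isField_stalk_of_maximal (η := f (f.fiberι η q)) (show IsMax (f (f.fiberι η q)) from e.symm ▸ hη)), Ideal.map_bot]

theorem exists_frame (hY : Pi1.IsNormalScheme Y) (hη : IsMax η) (h : Cube.Triv (c.comap (f.fiberι η))) :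
    Nonempty (Frame f c η) := by
  obtain ⟨a, ha⟩ := h
  let ι := f.fiberι η
  let s : ∀ (i : c.ι) (q : f.fiber η), ι q ∈ c.D i → (f.fiber η).presheaf.stalk q := fun i q hi =>
    (f.fiber η).presheaf.germ ((⊤ : (f.fiber η).Opens) ⊓ (c.comap ι).D i) q ⟨trivial, hi⟩ (a.1 i)
  have hsU : ∀ i q hi, IsUnit (s i q hi) := fun i q hi => by
    have hu := (Cube.isUnit_component ha i (W := (c.comap ι).D i) le_rfl).map
      ((f.fiber η).presheaf.germ ((c.comap ι).D i) q hi).hom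
    rwa [germ_res] at hu
  have hsG : ∀ (i j : c.ι) q (hi : ι q ∈ c.D i) (hj : ι q ∈ c.D j),
      s i q hi = (ι.stalkMap q).hom (X.presheaf.germ (c.D i ⊓ c.D j) (ι q) ⟨hi, hj⟩ (c.g i j)) * s j q hj := by
    intro i j q hi hj
    have e := (c.comap ι).sect_spec a i j (W := (⊤ : (f.fiber η).Opens) ⊓ ((c.comap ι).D i ⊓ (c.comap ι).D j))
      (le_inf inf_le_left (inf_le_right.trans inf_le_left)) (le_inf inf_le_left (inf_le_right.trans inf_le_right))
    have e' := congrArg ((f.fiber η).presheaf.germ ((⊤ : (f.fiber η).Opens) ⊓ ((c.comap ι).D i ⊓ (c.comap ι).D j)) q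
      ⟨trivial, hi, hj⟩).hom e
    rw [map_mul, pow_one, germ_res, germ_res] at e'
    refine e'.trans (congrArg (· * _) ?_)
    rw [Cocycle.G, germ_res]
    exact (germ_appLE (f := ι) (W := c.D i ⊓ c.D j) (P := ι ⁻¹ᵁ (c.D i ⊓ c.D j)) le_rfl (x := q) ⟨hi, hj⟩ (c.g i j)).symm
  have hex : ∀ (i : c.ι) (z : X) (hz : f z = η) (hi : z ∈ c.D i), ∃ t : X.presheaf.stalk z,
      ∀ (q : f.fiber η) (hq : ι q = z),
        (ι.stalkMap q).hom ((X.presheaf.stalkSpecializes (specializes_of_eq hq)).hom t) = s i q (hq ▸ hi) := by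
    intro i z hz hi
    obtain ⟨q, rfl⟩ : z ∈ Set.range ι := by rw [Scheme.Hom.range_fiberι]; exact hz
    obtain ⟨t, ht⟩ := (bijective_fiberι_stalkMap hY hη q).2 (s i q hi)
    refine ⟨t, fun q' hq' => ?_⟩
    obtain rfl := ι.isEmbedding.injective hq'
    rw [TopCat.Presheaf.stalkSpecializes_refl]
    exact ht
  choose t ht using hex
  have key : ∀ (i : c.ι) (q : f.fiber η) (hz : f (ι q) = η) (hi : ι q ∈ c.D i),
      (ι.stalkMap q).hom (t i (ι q) hz hi) = s i q hi := fun i q hz hi => by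
    have := ht i (ι q) hz hi q rfl
    rwa [TopCat.Presheaf.stalkSpecializes_refl] at this
  refine ⟨⟨t, fun i z hz hi => ?_, fun i j z hz hi hj => ?_, fun i z hz hi => ?_⟩⟩
  · obtain ⟨q, rfl⟩ : z ∈ Set.range ι := by rw [Scheme.Hom.range_fiberι]; exact hz
    exact isUnit_of_map_unit (ι.stalkMap q).hom _ (key i q hz hi ▸ hsU i q hi)
  · obtain ⟨q, rfl⟩ : z ∈ Set.range ι := by rw [Scheme.Hom.range_fiberι]; exact hz
    refine (bijective_fiberι_stalkMap hY hη q).1 ?_
    rw [map_mul, key, key]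
    exact hsG i j q hi hj
  · obtain ⟨q, rfl⟩ : z ∈ Set.range ι := by rw [Scheme.Hom.range_fiberι]; exact hz
    obtain ⟨G₀, hqG₀, w, hw⟩ := X.presheaf.germ_exist (t i (ι q) hz hi)
    have e : (f.fiber η).presheaf.germ (ι ⁻¹ᵁ G₀) q hqG₀ ((ι.app G₀).hom w) =
        (f.fiber η).presheaf.germ ((⊤ : (f.fiber η).Opens) ⊓ (c.comap ι).D i) q ⟨trivial, hi⟩ (a.1 i) := by
      refine (Scheme.Hom.germ_stalkMap_apply ι G₀ q hqG₀ w).symm.trans ?_
      refine (congrArg (ι.stalkMap q).hom hw).trans ?_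
      exact key i q hz hi
    obtain ⟨U, hqU, i₁, i₂, hU⟩ := (f.fiber η).presheaf.germ_eq q hqG₀
      (show q ∈ (⊤ : (f.fiber η).Opens) ⊓ (c.comap ι).D i from ⟨trivial, hi⟩) _ _ e
    obtain ⟨G₁, hG₁, hG₁U⟩ := ι.isEmbedding.isInducing.isOpen_iff.1 U.2
    have hqG₁ : ι q ∈ G₁ := by
      have : q ∈ ι ⁻¹' G₁ := hG₁U ▸ hqU
      exact this
    refine ⟨G₀ ⊓ (⟨G₁, hG₁⟩ : X.Opens), res inf_le_left w, ⟨hqG₀, hqG₁⟩, fun z' h hz' hi' => ?_⟩
    obtain ⟨q', rfl⟩ : z' ∈ Set.range ι := by rw [Scheme.Hom.range_fiberι]; exact hz'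
    refine (bijective_fiberι_stalkMap hY hη q').1 ?_
    rw [key i q' hz' hi', germ_res]
    refine (Scheme.Hom.germ_stalkMap_apply ι G₀ q' h.1 w).trans ?_
    have hq'U : q' ∈ U := by
      have : q' ∈ ι ⁻¹' G₁ := h.2
      rwa [hG₁U] at this
    have e₂ := congrArg ((f.fiber η).presheaf.germ U q' hq'U).hom hU
    rw [TopCat.Presheaf.germ_res_apply, TopCat.Presheaf.germ_res_apply] at e₂
    exact e₂

namespace Frame

variable (T : Frame f c η)

theorem exists_inv_rep (i : c.ι) {z : X} (hz : f z = η) (hi : z ∈ c.D i) :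
    ∃ (G : X.Opens) (w : Γ(X, G)), z ∈ G ∧ ∀ (z' : X) (h : z' ∈ G) (hz' : f z' = η) (hi' : z' ∈ c.D i),
      X.presheaf.germ G z' h w * T.t i z' hz' hi' = 1 := by
  obtain ⟨G, w, hzG, hw⟩ := T.rep i z hz hi
  have hzb : z ∈ X.basicOpen w := (X.mem_basicOpen w z hzG).2 (hw z hzG hz hi ▸ T.isUnit i z hz hi)
  refine ⟨X.basicOpen w, ((RingedSpace.isUnit_res_basicOpen X.toRingedSpace w).unit⁻¹).val, hzb, fun z' h hz' hi' => ?_⟩
  rw [← hw z' (X.basicOpen_le w h) hz' hi', ← germ_res (X.basicOpen_le w) h, ← map_mul]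
  exact (congrArg (X.presheaf.germ _ z' h).hom
    (IsUnit.val_inv_mul (RingedSpace.isUnit_res_basicOpen X.toRingedSpace w))).trans (map_one _)

/-- The same trivialisation on the other side. -/
def symm (T : Frame f c η) (i : c.ι) (z : X) (hz : f z = η) (hi : z ∈ c.D i) : X.presheaf.stalk z :=
  ↑(T.isUnit i z hz hi).unit⁻¹

theorem symm_mul (i : c.ι) (z : X) (hz : f z = η) (hi : z ∈ c.D i) : T.symm i z hz hi * T.t i z hz hi = 1 :=
  (T.isUnit i z hz hi).val_inv_mul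

theorem eq_symm (i : c.ι) (z : X) (hz : f z = η) (hi : z ∈ c.D i) {w : X.presheaf.stalk z}
    (h : w * T.t i z hz hi = 1) : w = T.symm i z hz hi :=
  (T.isUnit i z hz hi).mul_left_inj.1 (h.trans (T.symm_mul i z hz hi).symm)

end Frame

end GrothLib.LBDesc26
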