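import Groth.Agent.Lib.LBDesc26.Basic
import Groth.Agent.Lib.LBDesc26.Alg
import Groth.Agent.Lib.Birat.Basic

/-!
# Height one primes of the base under integral fibres
-/

set_option autoImplicit false
set_option backward.isDefEq.respectTransparency false
set_option backward.isDefEq.respectTransparency.types false
set_option linter.all false
set_option synthInstance.maxHeartbeats 200000

universe u

open CategoryTheory AlgebraicGeometry TopologicalSpace IsLocalRing
open GrothLib.CartierDescent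

noncomputable section

namespace GrothLib.LBDesc26

variable {X Y : Scheme.{u}} {f : X ⟶ Y}

theorem maximalIdeal_eq_map {y' y : Y} (h : y' ⤳ y) :
    maximalIdeal (Y.presheaf.stalk y') =
      ((maximalIdeal (Y.presheaf.stalk y')).comap (Y.presheaf.stalkSpecializes h).hom).map
        (Y.presheaf.stalkSpecializes h).hom := by
  refine le_antisymm (fun a ha => ?_) (Ideal.map_comap_le)
  obtain ⟨U, hy, -⟩ := GrothLib.BlowUp.exists_affine_mem_le (W := (⊤ : Y.Opens)) (x := y) trivial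
  have hy' : y' ∈ U.1 := h.mem_open U.1.2 hy
  let _ := TopCat.Presheaf.algebra_section_stalk Y.presheaf (⟨y', hy'⟩ : U.1)
  haveI := U.2.isLocalization_stalk ⟨y', hy'⟩
  obtain ⟨r, s, rfl⟩ := IsLocalization.exists_mk'_eq (U.2.primeIdealOf ⟨y', hy'⟩).asIdeal.primeCompl a
  have hs : IsUnit (algebraMap Γ(Y, U.1) (Y.presheaf.stalk y') s) := IsLocalization.map_units _ s
  refine (Ideal.mul_unit_mem_iff_mem _ hs).1 ?_
  rw [IsLocalization.mk'_spec]
  have hr : algebraMap Γ(Y, U.1) (Y.presheaf.stalk y') r =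
      (Y.presheaf.stalkSpecializes h).hom (Y.presheaf.germ U.1 y hy r) :=
    (TopCat.Presheaf.germ_stalkSpecializes_apply _ hy h r).symm
  rw [hr]
  refine Ideal.mem_map_of_mem _ (Ideal.mem_comap.2 ?_)
  rw [← hr, ← IsLocalization.mk'_spec (Y.presheaf.stalk y') r s]
  exact Ideal.mul_mem_right _ _ ha

/-- The point under a height one prime. -/
theorem exists_point {y : Y} (p : Ideal (Y.presheaf.stalk y)) [p.IsPrime] (hp : p.height = 1) :
    ∃ (y' : Y) (h : y' ⤳ y), p = (maximalIdeal (Y.presheaf.stalk y')).comap (Y.presheaf.stalkSpecializes h).hom ∧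
      ringKrullDim (Y.presheaf.stalk y') = 1 := by
  obtain ⟨y', h, he, hpt⟩ := exists_specializes_eq y p
  refine ⟨y', h, he, ?_⟩
  rw [hpt, Birat.ringKrullDim_stalk_fromSpecStalk, show (⟨p, inferInstance⟩ : Spec (Y.presheaf.stalk y)).asIdeal = p from rfl, hp]
  rfl

variable (hY : Pi1.IsNormalScheme Y) (hfib : ∀ y : ↥Y, ringKrullDim ↑(Y.presheaf.stalk y) = 1 → IsIntegral (f.fiber y))

include hY hfib in
/-- An associated prime of the special fibre over a height one prime. -/
theorem assoc_eq [IsLocallyNoetherian X] [IsLocallyNoetherian Y] [Flat f] {x : X}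
    {y' : Y} (h : y' ⤳ f x) (hdim : ringKrullDim (Y.presheaf.stalk y') = 1)
    (p : Ideal (Y.presheaf.stalk (f x))) [p.IsPrime]
    (hpe : p = (maximalIdeal (Y.presheaf.stalk y')).comap (Y.presheaf.stalkSpecializes h).hom)
    {π : Y.presheaf.stalk (f x)} (hπp : π ∈ p) (hπ : ∀ a ∈ p, ∃ u b, u ∉ p ∧ u * a = π * b)
    (Q : Ideal (X.presheaf.stalk x))
    (hQ : IsAssociatedPrime Q (X.presheaf.stalk x ⧸ p.map (f.stalkMap x).hom)) :
    (∀ a ∈ Q, ∃ s, s ∉ Q ∧ s * a ∈ p.map (f.stalkMap x).hom) ∧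
      ∃ (q : f.fiber y'), (haveI := hfib y' hdim; q = genericPoint (f.fiber y')) ∧
        ∃ (z : X) (hz : f.fiberι y' q = z) (hzx : z ⤳ x), Q = (maximalIdeal (X.presheaf.stalk z)).comap
          (X.presheaf.stalkSpecializes hzx).hom := by
  haveI := hQ.isPrime
  haveI := (hY (f x)).1
  obtain ⟨-, w, hw⟩ := isAssociatedPrime_iff.1 hQ
  obtain ⟨w, rfl⟩ := Ideal.Quotient.mk_surjective w
  let φ := (f.stalkMap x).hom
  have hmem : ∀ a, a ∈ Q ↔ a * w ∈ p.map φ := fun a => by
    rw [hw, Submodule.mem_colon_singleton, Submodule.mem_bot]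
    exact Ideal.Quotient.eq_zero_iff_mem
  have hw0 : w ∉ p.map φ := fun hm => hQ.1.ne_top (eq_top_iff.2 fun a _ => (hmem a).2 (Ideal.mul_mem_left _ _ hm))
  obtain ⟨z, hzx, hQz, -⟩ := exists_specializes_eq x Q
  have hcomap : Q.comap φ = p := by
    refine le_antisymm (fun d hd => ?_) fun d hd => Ideal.mem_comap.2 ((hmem _).2
      (Ideal.mul_mem_right _ _ (Ideal.mem_map_of_mem _ hd)))
    by_contra hdp
    let _ : Algebra (Y.presheaf.stalk (f x)) (X.presheaf.stalk x) := φ.toAlgebra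
    haveI : Module.Flat (Y.presheaf.stalk (f x)) (X.presheaf.stalk x) := Flat.stalkMap f x
    exact hw0 (mem_map_of_forall_mul_mem p p (fun _ : Unit => d)
      (fun c hc => ((inferInstance : p.IsPrime).mem_or_mem (hc ())).resolve_left hdp)
      fun _ => (hmem _).1 (Ideal.mem_comap.1 hd))
  have hfz : f z = y' := by
    have hs : f z ⤳ f x := hzx.map f.continuous
    refine (fromSpecStalk_eq hs p inferInstance ?_).symm.trans (fromSpecStalk_eq h p inferInstance hpe)
    rw [← hcomap]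
    ext d
    simp only [φ, hQz, Ideal.mem_comap, mem_maximalIdeal, mem_nonunits_iff]
    rw [← Scheme.Hom.stalkSpecializes_stalkMap_apply f z x hzx d]
    exact ⟨fun hn hu => hn (hu.map _), fun hn hu => hn (isUnit_of_map_unit (f.stalkMap z).hom _ hu)⟩
  subst hfz
  haveI := hfib (f z) hdim
  obtain ⟨q, hq⟩ : z ∈ Set.range (f.fiberι (f z)) := by rw [Scheme.Hom.range_fiberι]; exact rfl
  obtain ⟨hsur, hker⟩ := GrothLib.FibreFlat.fiberι_stalkMap' f (f z) q z hq
  let θ := ((X.presheaf.stalkCongr (.of_eq hq.symm)).hom ≫ (f.fiberι (f z)).stalkMap q).hom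
  let σ := (X.presheaf.stalkSpecializes hzx).hom
  let τ := φ π
  have hker' : RingHom.ker θ = Ideal.span {σ τ} := by
    refine hker.trans ?_
    rw [show maximalIdeal (Y.presheaf.stalk (f z)) = Ideal.span {(Y.presheaf.stalkSpecializes h).hom π} from ?_,
      Ideal.map_span, Set.image_singleton]
    · exact congrArg (fun a => Ideal.span {a}) (Scheme.Hom.stalkSpecializes_stalkMap_apply f z x hzx π)
    rw [maximalIdeal_eq_map h, ← hpe]
    refine le_antisymm (Ideal.map_le_iff_le_comap.2 fun a ha => ?_)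
      ((Ideal.span_singleton_le_iff_mem _).2 (Ideal.mem_map_of_mem _ hπp))
    obtain ⟨u, b, hu, hub⟩ := hπ a ha
    have huu : IsUnit ((Y.presheaf.stalkSpecializes h).hom u) := notMem_maximalIdeal.1 fun hm => hu (by rw [hpe]; exact hm)
    rw [Ideal.mem_comap]
    refine (Ideal.unit_mul_mem_iff_mem _ huu).1 ?_
    rw [← map_mul, hub, map_mul]
    exact Ideal.mul_mem_right _ _ (Ideal.mem_span_singleton_self _)
  have hlift : ∀ a, θ (σ a) = 0 → ∃ s, s ∉ Q ∧ s * a ∈ p.map φ := by
    intro a ha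
    have hm : σ a ∈ Ideal.span {σ τ} := hker' ▸ (RingHom.mem_ker.2 ha)
    obtain ⟨s, hs, hsa⟩ := exists_of_mem_span_stalkSpecializes hzx hm
    exact ⟨s, hQz ▸ hs, (Ideal.span_singleton_le_iff_mem (I := p.map φ)).2 (Ideal.mem_map_of_mem _ hπp) hsa⟩
  have hwne : θ (σ w) ≠ 0 := fun h0 => by
    obtain ⟨s, hs, hsw⟩ := hlift w h0
    exact hs ((hmem s).2 hsw)
  have hQ0 : ∀ a ∈ Q, θ (σ a) = 0 := fun a ha => by
    refine (mul_eq_zero.1 ?_).resolve_right hwne
    rw [← map_mul, ← map_mul]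
    have hm : a * w ∈ p.map φ := (hmem a).1 ha
    have h1 := Ideal.mem_map_of_mem σ hm
    refine RingHom.mem_ker.1 ((show (p.map φ).map σ ≤ RingHom.ker θ from ?_) h1)
    rw [Ideal.map_map, Ideal.map_le_iff_le_comap]
    intro d hd
    rw [Ideal.mem_comap]
    refine hker.ge ?_
    have hd' : (Y.presheaf.stalkSpecializes h).hom d ∈ maximalIdeal (Y.presheaf.stalk (f z)) := by
      rw [hpe] at hd
      exact hd
    have := Ideal.mem_map_of_mem (f.stalkMap z).hom hd'
    exact (Scheme.Hom.stalkSpecializes_stalkMap_apply f z x hzx d) ▸ this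
  refine ⟨fun a ha => hlift a (hQ0 a ha), q, ?_, z, hq, hzx, hQz⟩
  · have hm0 : ∀ b ∈ maximalIdeal (X.presheaf.stalk z), θ b = 0 := fun b hb => by
      rw [maximalIdeal_eq_map hzx, ← hQz] at hb
      refine RingHom.mem_ker.1 ((Ideal.map_le_iff_le_comap.2 fun a ha => ?_) hb)
      exact RingHom.mem_ker.2 (hQ0 a ha)
    have hbot : maximalIdeal ((f.fiber (f z)).presheaf.stalk q) = ⊥ := eq_bot_iff.2 fun b hb => by
      obtain ⟨b, rfl⟩ := hsur b
      exact Ideal.mem_bot.2 (hm0 b ((mem_maximalIdeal _).2 fun hu => (mem_maximalIdeal _).1 hb (hu.map θ)))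
    obtain ⟨g, hg⟩ : genericPoint (f.fiber (f z)) ∈ Set.range ((f.fiber (f z)).fromSpecStalk q) := by
      rw [Scheme.range_fromSpecStalk]; exact genericPoint_specializes q
    have e : g = closedPoint _ := PrimeSpectrum.ext
      ((le_antisymm (le_maximalIdeal g.2.ne_top) (hbot.trans_le bot_le)) : g.asIdeal = maximalIdeal _)
    rw [← hg, e, Scheme.fromSpecStalk_closedPoint]

include hY hfib in
theorem isPrime_map [IsLocallyNoetherian X] [IsLocallyNoetherian Y] [Flat f] (x : X)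
    (p : Ideal (Y.presheaf.stalk (f x))) (hpp : p.IsPrime) (hp : p.height = 1) :
    (p.map (f.stalkMap x).hom).IsPrime := by
  haveI := hpp
  haveI := (hY (f x)).1
  haveI := (hY (f x)).2
  obtain ⟨y', h, hpe, hdim⟩ := exists_point p hp
  obtain ⟨π, hπp, -, -, hπ⟩ := Cube.exists_uniformiser hp
  haveI := hfib y' hdim
  let I := p.map (f.stalkMap x).hom
  refine ⟨fun htop => ?_, fun {a b} hab => ?_⟩
  · have hle : I ≤ maximalIdeal _ := Ideal.map_le_iff_le_comap.2 fun d hd => Ideal.mem_comap.2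
      ((mem_maximalIdeal _).2 fun hu => (mem_maximalIdeal _).1 (le_maximalIdeal hpp.ne_top hd)
        (isUnit_of_map_unit (f.stalkMap x).hom _ hu))
    exact (maximalIdeal.isMaximal _).ne_top (top_le_iff.1 (htop.symm.le.trans hle))
  by_contra hcon
  push Not at hcon
  obtain ⟨Q, hQ, hbQ⟩ := exists_le_isAssociatedPrime_of_isNoetherianRing (X.presheaf.stalk x)
    (Ideal.Quotient.mk I b) fun e => hcon.2 (Ideal.Quotient.eq_zero_iff_mem.1 e)
  have haQ : a ∈ Q := hbQ (by
    rw [Submodule.mem_colon_singleton, Submodule.mem_bot]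
    exact Ideal.Quotient.eq_zero_iff_mem.2 hab)
  obtain ⟨hQ1, q, rfl, _, rfl, hqx, hQe⟩ := assoc_eq hY hfib h hdim p hpe hπp hπ Q hQ
  obtain ⟨s, hs, hsa⟩ := hQ1 a haQ
  obtain ⟨Q', hQ', haQ'⟩ := exists_le_isAssociatedPrime_of_isNoetherianRing (X.presheaf.stalk x)
    (Ideal.Quotient.mk I a) fun e => hcon.1 (Ideal.Quotient.eq_zero_iff_mem.1 e)
  obtain ⟨-, q', rfl, _, rfl, hqx', hQe'⟩ := assoc_eq hY hfib h hdim p hpe hπp hπ Q' hQ'
  refine hs ?_
  rw [hQe]
  have : s ∈ Q' := haQ' (by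
    rw [Submodule.mem_colon_singleton, Submodule.mem_bot]
    exact Ideal.Quotient.eq_zero_iff_mem.2 hsa)
  rw [hQe'] at this
  exact this

end GrothLib.LBDesc26
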