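import Groth.Agent.Lib.LBDesc26.Frame
import Groth.Agent.Lib.LBDesc26.Den
import Groth.Agent.Lib.LBDesc26.Prime

/-!
# Rational generators
-/

set_option autoImplicit false
set_option backward.isDefEq.respectTransparency false
set_option backward.isDefEq.respectTransparency.types false
set_option linter.all false
set_option synthInstance.maxHeartbeats 200000

universe u

open CategoryTheory AlgebraicGeometry TopologicalSpace IsLocalRing
open GrothLib.CartierDescent GrothLib.Ample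

noncomputable section

namespace GrothLib.LBDesc26

variable {X Y : Scheme.{u}} {f : X ⟶ Y} {c : Cocycle X} {η : Y} (T : Frame f c η)

/-- `r` times the trivialisation generates at `x`. -/
def Good (r : Y.presheaf.stalk η) (x : X) : Prop :=
  IsUnit r ∧ ∃ (i : c.ι) (hi : x ∈ c.D i) (w : X.presheaf.stalk x), IsUnit w ∧
    ∀ (z : X) (hzx : z ⤳ x) (hz : f z = η),
      (X.presheaf.stalkSpecializes hzx).hom w = phi f η hz r * T.t i z hz (hzx.mem_open (c.D i).2 hi)

variable {T}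

theorem Good.all {r : Y.presheaf.stalk η} {x : X} (h : Good T r x) (i : c.ι) (hi : x ∈ c.D i) :
    ∃ w : X.presheaf.stalk x, IsUnit w ∧ ∀ (z : X) (hzx : z ⤳ x) (hz : f z = η),
      (X.presheaf.stalkSpecializes hzx).hom w = phi f η hz r * T.t i z hz (hzx.mem_open (c.D i).2 hi) := by
  obtain ⟨-, j, hj, w, hw, hwt⟩ := h
  refine ⟨X.presheaf.germ (c.D i ⊓ c.D j) x ⟨hi, hj⟩ (c.g i j) * w, IsUnit.mul ?_ hw, fun z hzx hz => ?_⟩
  · have := (c.isUnit_G i j (W := c.D i ⊓ c.D j) inf_le_left inf_le_right).map (X.presheaf.germ (c.D i ⊓ c.D j) x ⟨hi, hj⟩).hom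
    rwa [Cocycle.G, germ_res] at this
  · rw [map_mul, hwt z hzx hz, T.compat i j z hz (hzx.mem_open (c.D i).2 hi) (hzx.mem_open (c.D j).2 hj),
      show (X.presheaf.stalkSpecializes hzx).hom (X.presheaf.germ (c.D i ⊓ c.D j) x ⟨hi, hj⟩ (c.g i j)) =
        X.presheaf.germ (c.D i ⊓ c.D j) z (hzx.mem_open (c.D i ⊓ c.D j).2 ⟨hi, hj⟩) (c.g i j) from
        TopCat.Presheaf.germ_stalkSpecializes_apply _ _ hzx _]
    ring

theorem Good.generalize {r : Y.presheaf.stalk η} {x' x : X} (h : Good T r x) (h' : x' ⤳ x) : Good T r x' := by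
  obtain ⟨hr, i, hi, w, hw, hwt⟩ := h
  refine ⟨hr, i, h'.mem_open (c.D i).2 hi, (X.presheaf.stalkSpecializes h').hom w, hw.map _, fun z hzx hz => ?_⟩
  rw [← hwt z (hzx.trans h') hz]
  exact TopCat.Presheaf.stalkSpecializes_comp_apply X.presheaf hzx h' w

variable (hY : Pi1.IsNormalScheme Y) (hη : IsMax η)

include hY in
theorem exists_frac {W : Y.Opens} (hW : IsAffineOpen W) (hηW : η ∈ W) {y : Y} (hy : y ∈ W) (hηy : η ⤳ y)
    (r : Y.presheaf.stalk η) :
    ∃ (a b : Γ(Y, W)), IsUnit (Y.presheaf.germ W η hηW b) ∧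
      r * Y.presheaf.germ W η hηW b = Y.presheaf.germ W η hηW a := by
  let _ := TopCat.Presheaf.algebra_section_stalk Y.presheaf (⟨η, hηW⟩ : W)
  haveI := hW.isLocalization_stalk ⟨η, hηW⟩
  obtain ⟨⟨a, b⟩, hab⟩ := IsLocalization.surj (hW.primeIdealOf ⟨η, hηW⟩).asIdeal.primeCompl r
  exact ⟨a, b, IsLocalization.map_units _ b, hab⟩

include hY hη in
/-- A comparison unit which is constant over the maximal point descends. -/
theorem exists_descend [IsLocallyNoetherian X] [Flat f] {x : X} (h : η ⤳ f x) {ρ : Y.presheaf.stalk η}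
    {v : X.presheaf.stalk x} (hv : IsUnit v)
    (hvρ : ∀ (z : X) (hzx : z ⤳ x) (hz : f z = η), (X.presheaf.stalkSpecializes hzx).hom v = phi f η hz ρ) :
    ∃ e : Y.presheaf.stalk (f x), IsUnit e ∧ (Y.presheaf.stalkSpecializes h).hom e = ρ := by
  haveI := (hY (f x)).1
  obtain ⟨W, hxW, -⟩ := GrothLib.BlowUp.exists_affine_mem_le (W := (⊤ : Y.Opens)) (x := f x) trivial
  obtain ⟨a, b, hb, hab⟩ := exists_frac hY W.2 (h.mem_open W.1.2 hxW) hxW h ρ
  let σ := (Y.presheaf.stalkSpecializes h).hom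
  let A := Y.presheaf.germ W.1 (f x) hxW a
  let B := Y.presheaf.germ W.1 (f x) hxW b
  have hA : σ A = Y.presheaf.germ W.1 η (h.mem_open W.1.2 hxW) a := TopCat.Presheaf.germ_stalkSpecializes_apply _ _ h a
  have hB : σ B = Y.presheaf.germ W.1 η (h.mem_open W.1.2 hxW) b := TopCat.Presheaf.germ_stalkSpecializes_apply _ _ h b
  have e1 : (f.stalkMap x).hom B * v = (f.stalkMap x).hom A := by
    refine eq_of_over_max hY hη h fun z hzx hz => ?_
    rw [map_mul, hvρ z hzx hz, ← phi_specializes hz hzx h, ← phi_specializes hz hzx h, ← map_mul]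
    refine congrArg (phi f η hz) ?_
    change σ B * ρ = σ A
    rw [hA, hB, mul_comm]
    exact hab
  let _ : Algebra (Y.presheaf.stalk (f x)) (X.presheaf.stalk x) := (f.stalkMap x).hom.toAlgebra
  haveI : Module.Flat (Y.presheaf.stalk (f x)) (X.presheaf.stalk x) := Flat.stalkMap f x
  haveI : IsLocalHom (algebraMap (Y.presheaf.stalk (f x)) (X.presheaf.stalk x)) :=
    inferInstanceAs (IsLocalHom (f.stalkMap x).hom)
  haveI : Module.FaithfullyFlat (Y.presheaf.stalk (f x)) (X.presheaf.stalk x) :=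
    Module.FaithfullyFlat.of_flat_of_isLocalHom
  have hdvd : B ∣ A := by
    have h1 : A ∈ ((Ideal.span {B}).map (algebraMap _ (X.presheaf.stalk x))).comap (algebraMap _ _) := by
      rw [Ideal.mem_comap, Ideal.map_span, Set.image_singleton]
      exact Ideal.mem_span_singleton'.2 ⟨v, (mul_comm _ _).trans e1⟩
    rw [Ideal.comap_map_eq_self_of_faithfullyFlat] at h1
    exact Ideal.mem_span_singleton.1 h1
  obtain ⟨e, he⟩ := hdvd
  have hB0 : B ≠ 0 := fun h0 => hb.ne_zero (by rw [← hB, h0, map_zero])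
  have hev : (f.stalkMap x).hom e = v := by
    refine (mul_cancel_left_mem_nonZeroDivisors (mem_nzd_stalk (f := f) hY (x := x) (d := B) hB0)).1 ?_
    rw [e1, ← map_mul, ← he]
  refine ⟨e, isUnit_of_map_unit (f.stalkMap x).hom e (hev ▸ hv), ?_⟩
  refine (hB ▸ hb : IsUnit (σ B)).mul_left_cancel ?_
  rw [← map_mul, ← he, hA, hB, mul_comm]
  exact hab.symm

include hY hη in
theorem Good.ratio_self [IsLocallyNoetherian X] [Flat f] {x : X} (h : η ⤳ f x) {r r' : Y.presheaf.stalk η}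
    (hr : Good T r x) (hr' : Good T r' x) :
    ∃ e : Y.presheaf.stalk (f x), IsUnit e ∧ (Y.presheaf.stalkSpecializes h).hom e * r = r' := by
  obtain ⟨hru, i, hi, w, hw, hwt⟩ := id hr
  obtain ⟨w', hw', hwt'⟩ := hr'.all i hi
  obtain ⟨e, heu, he⟩ := exists_descend hY hη h (ρ := r' * ↑hru.unit⁻¹) (hw'.mul hw.unit⁻¹.isUnit) fun z hzx hz => by
    have h1 : (X.presheaf.stalkSpecializes hzx).hom w * (X.presheaf.stalkSpecializes hzx).hom ↑hw.unit⁻¹ = 1 := by
      rw [← map_mul, IsUnit.mul_val_inv, map_one]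
    refine (hw.map (X.presheaf.stalkSpecializes hzx).hom).mul_left_cancel ?_
    rw [map_mul, mul_left_comm, h1, mul_one, hwt z hzx hz, hwt' z hzx hz]
    have h2 : phi f η hz r * phi f η hz ↑hru.unit⁻¹ = 1 := by rw [← map_mul, IsUnit.mul_val_inv, map_one]
    rw [map_mul]
    linear_combination -(phi f η hz r' * T.t i z hz (hzx.mem_open (c.D i).2 hi)) * h2
  exact ⟨e, heu, by rw [he, mul_assoc, IsUnit.val_inv_mul, mul_one]⟩

variable (hfib : ∀ y : ↥Y, ringKrullDim ↑(Y.presheaf.stalk y) = 1 → IsIntegral (f.fiber y))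

theorem exists_over_of_specializes [Flat f] {y : Y} {x : X} (h : y ⤳ f x) : ∃ z : X, z ⤳ x ∧ f z = y := by
  obtain ⟨z, hz, e⟩ := Flat.generalizingMap (f := f) h
  exact ⟨z, hz, e⟩

include hY hη hfib in
/-- Two rational generators over one point of the base differ by a unit. -/
theorem Good.ratio [IsLocallyNoetherian X] [IsLocallyNoetherian Y] [Flat f] {x x' : X} (hxx : f x' = f x)
    (h : η ⤳ f x) {r r' : Y.presheaf.stalk η} (hr : Good T r x) (hr' : Good T r' x') :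
    ∃ e : Y.presheaf.stalk (f x), IsUnit e ∧ (Y.presheaf.stalkSpecializes h).hom e * r = r' := by
  haveI := (hY (f x)).1
  haveI := (hY (f x)).2
  obtain ⟨W, hxW, -⟩ := GrothLib.BlowUp.exists_affine_mem_le (W := (⊤ : Y.Opens)) (x := f x) trivial
  obtain ⟨a, b, hb, hab⟩ := exists_frac hY W.2 (h.mem_open W.1.2 hxW) hxW h (r' * ↑hr.1.unit⁻¹)
  let σ := (Y.presheaf.stalkSpecializes h).hom
  let A := Y.presheaf.germ W.1 (f x) hxW a
  let B := Y.presheaf.germ W.1 (f x) hxW b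
  have hA : σ A = Y.presheaf.germ W.1 η (h.mem_open W.1.2 hxW) a := TopCat.Presheaf.germ_stalkSpecializes_apply _ _ h a
  have hB : σ B = Y.presheaf.germ W.1 η (h.mem_open W.1.2 hxW) b := TopCat.Presheaf.germ_stalkSpecializes_apply _ _ h b
  have hAB : σ A * r = σ B * r' := by
    rw [hA, hB, ← hab]
    linear_combination (r' * Y.presheaf.germ W.1 η (h.mem_open W.1.2 hxW) b) * (IsUnit.val_inv_mul hr.1)
  have hσB : IsUnit (σ B) := hB ▸ hb
  have hσA : IsUnit (σ A) := isUnit_of_mul_isUnit_left (hAB ▸ hσB.mul hr'.1)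
  have key : ∀ p : Ideal (Y.presheaf.stalk (f x)), p.IsPrime → p.height = 1 →
      (∃ s, s ∉ p ∧ s * A ∈ Ideal.span {B}) ∧ ∃ s, s ∉ p ∧ s * B ∈ Ideal.span {A} := by
    intro p hp hp1
    haveI := hp
    obtain ⟨y', hy', hpe, hdim⟩ := exists_point p hp1
    haveI := hfib y' hdim
    haveI := (hY y').1
    let ξ := f.fiberι y' (genericPoint (f.fiber y'))
    have hfξ : f ξ = y' := GrothLib.FibreFlat.fiberι_comp_apply f y' _
    have hgen : ∀ x₀ : X, y' ⤳ f x₀ → ξ ⤳ x₀ := by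
      intro x₀ h0
      obtain ⟨z, hz, hfz⟩ := exists_over_of_specializes h0
      obtain ⟨q, rfl⟩ : z ∈ Set.range (f.fiberι y') := by rw [Scheme.Hom.range_fiberι]; exact hfz
      exact ((genericPoint_specializes q).map (f.fiberι y').continuous).trans hz
    have hηy' : η ⤳ y' := by
      obtain ⟨η', hη', h'⟩ := exists_max hY y'
      exact max_unique hY hη hη' h (h'.trans hy') ▸ h'
    obtain ⟨e, he, her⟩ := Good.ratio_self hY hη (x := ξ) (hfξ.symm ▸ hηy') (hr.generalize (hgen x hy'))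
      (hr'.generalize (hgen x' (hxx.symm ▸ hy')))
    have hs : f ξ ⤳ f x := hfξ.symm ▸ hy'
    have hsη : η ⤳ f ξ := hfξ.symm ▸ hηy'
    haveI := (hY (f ξ)).1
    let σ' := (Y.presheaf.stalkSpecializes hs).hom
    have hcomp : ∀ d, (Y.presheaf.stalkSpecializes hsη).hom (σ' d) = σ d := fun d =>
      TopCat.Presheaf.stalkSpecializes_comp_apply Y.presheaf hsη hs d
    have hAe : σ' A = σ' B * e := by
      refine stalkSpecializes_injective hsη (hr.1.mul_right_cancel ?_)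
      rw [map_mul, hcomp, hcomp, hAB, mul_assoc, her]
    have hp' : p = (maximalIdeal (Y.presheaf.stalk (f ξ))).comap σ' := by
      clear_value ξ
      subst hfξ
      exact hpe
    constructor
    · obtain ⟨s, hs', hsA⟩ := exists_of_mem_span_stalkSpecializes hs (b := A) (c := B)
        (Ideal.mem_span_singleton'.2 ⟨e, (mul_comm _ _).trans hAe.symm⟩)
      exact ⟨s, hp' ▸ hs', hsA⟩
    · obtain ⟨s, hs', hsA⟩ := exists_of_mem_span_stalkSpecializes hs (b := B) (c := A)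
        (Ideal.mem_span_singleton'.2 ⟨↑he.unit⁻¹, by
          show ↑he.unit⁻¹ * σ' A = σ' B
          rw [hAe, mul_left_comm, IsUnit.val_inv_mul, mul_one]⟩)
      exact ⟨s, hp' ▸ hs', hsA⟩
  have hne : ∀ {d : Y.presheaf.stalk (f x)}, IsUnit (σ d) → d ≠ 0 := fun hd h0 => hd.ne_zero (by rw [h0, map_zero])
  have h1 : A ∈ Ideal.span {algebraMap (Y.presheaf.stalk (f x)) (Y.presheaf.stalk (f x)) B} :=
    Cube.mem_span_of_forall_height_one (A := Y.presheaf.stalk (f x)) (B := Y.presheaf.stalk (f x))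
      (hne hσB) A fun p hp hp1 => (key p hp hp1).1
  have h2 : B ∈ Ideal.span {algebraMap (Y.presheaf.stalk (f x)) (Y.presheaf.stalk (f x)) A} :=
    Cube.mem_span_of_forall_height_one (A := Y.presheaf.stalk (f x)) (B := Y.presheaf.stalk (f x))
      (hne hσA) B fun p hp hp1 => (key p hp hp1).2
  have hassoc : Associated B A := associated_of_dvd_dvd (Ideal.mem_span_singleton.1 h1) (Ideal.mem_span_singleton.1 h2)
  obtain ⟨e, he⟩ := hassoc
  refine ⟨e, e.isUnit, hσB.mul_left_cancel ?_⟩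
  rw [← hAB, ← he, map_mul]
  ring

include hY hη hfib in
theorem Good.of_good [IsLocallyNoetherian X] [IsLocallyNoetherian Y] [Flat f] {x x' : X} (hxx : f x' = f x)
    (h : η ⤳ f x) {r r' : Y.presheaf.stalk η} (hr : Good T r x) (hr' : Good T r' x') : Good T r x' := by
  obtain ⟨e, he, her⟩ := Good.ratio hY hη hfib hxx h hr hr'
  obtain ⟨hru', i, hi, w, hw, hwt⟩ := hr'
  have hs : f x' ⤳ f x := specializes_of_eq hxx
  let e' := (Y.presheaf.stalkSpecializes hs).hom e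
  have he' : IsUnit ((f.stalkMap x').hom e') := (he.map _).map _
  refine ⟨hr.1, i, hi, w * ↑he'.unit⁻¹, hw.mul he'.unit⁻¹.isUnit, fun z hzx hz => ?_⟩
  refine (he'.map (X.presheaf.stalkSpecializes hzx).hom).mul_left_cancel ?_
  rw [← map_mul, mul_left_comm, IsUnit.mul_val_inv, mul_one, hwt z hzx hz,
    ← phi_specializes hz hzx (hxx.symm ▸ h), ← her, map_mul]
  rw [show (Y.presheaf.stalkSpecializes (hxx.symm ▸ h : η ⤳ f x')).hom e' = (Y.presheaf.stalkSpecializes h).hom e from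
    TopCat.Presheaf.stalkSpecializes_comp_apply Y.presheaf (hxx.symm ▸ h : η ⤳ f x') hs e]
  ring

include hY hη hfib in
/-- Rational generators exist. -/
theorem exists_good [IsLocallyNoetherian X] [IsLocallyNoetherian Y] [Flat f] {x : X} (h : η ⤳ f x) :
    ∃ r, Good T r x := by
  haveI := (hY (f x)).1
  haveI := (hY (f x)).2
  obtain ⟨W₀, hxW₀, hW₀⟩ := exists_nhds_max hY hη h
  obtain ⟨W, hxW, hW⟩ := GrothLib.BlowUp.exists_affine_mem_le (W := W₀) (x := f x) hxW₀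
  obtain ⟨i, hi⟩ := c.exists_mem x
  obtain ⟨P, hxP, hP⟩ := GrothLib.BlowUp.exists_affine_mem_le (W := c.D i ⊓ f ⁻¹ᵁ W.1) (x := x) ⟨hi, hxW⟩
  have hηW : η ∈ W.1 := h.mem_open W.1.2 hxW
  obtain ⟨d₁, b₁, hd₁, hb₁⟩ := exists_den hY hη W.2 hηW (fun p hp => hW₀ p (hW hp)) P.2 (hP.trans inf_le_right)
    (fun z hz hzP => T.t i z hz (hP hzP).1) (fun z hz hzP => by
      obtain ⟨G, w, hzG, hw⟩ := T.rep i z hz (hP hzP).1
      exact ⟨G, w, hzG, fun z' h' hz' hi' => hw z' h' hz' (hP hi').1⟩)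
  obtain ⟨d₂, b₂, hd₂, hb₂⟩ := exists_den hY hη W.2 hηW (fun p hp => hW₀ p (hW hp)) P.2 (hP.trans inf_le_right)
    (fun z hz hzP => T.symm i z hz (hP hzP).1) (fun z hz hzP => by
      obtain ⟨G, w, hzG, hw⟩ := T.exists_inv_rep i hz (hP hzP).1
      exact ⟨G, w, hzG, fun z' h' hz' hi' => T.eq_symm i z' hz' (hP hi').1 (hw z' h' hz' (hP hi').1)⟩)
  let σ := (Y.presheaf.stalkSpecializes h).hom
  let D₁ := Y.presheaf.germ W.1 (f x) hxW d₁
  let D₂ := Y.presheaf.germ W.1 (f x) hxW d₂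
  have hD₁ : σ D₁ = Y.presheaf.germ W.1 η hηW d₁ := TopCat.Presheaf.germ_stalkSpecializes_apply _ _ h d₁
  have hD₂ : σ D₂ = Y.presheaf.germ W.1 η hηW d₂ := TopCat.Presheaf.germ_stalkSpecializes_apply _ _ h d₂
  let E₁ := X.presheaf.germ P.1 x hxP b₁
  let E₂ := X.presheaf.germ P.1 x hxP b₂
  have hval : ∀ (z : X) (hzx : z ⤳ x) (hz : f z = η),
      (X.presheaf.stalkSpecializes hzx).hom E₁ = phi f η hz (σ D₁) * T.t i z hz (hzx.mem_open (c.D i).2 hi) ∧
      (X.presheaf.stalkSpecializes hzx).hom E₂ = phi f η hz (σ D₂) * T.symm i z hz (hzx.mem_open (c.D i).2 hi) := by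
    intro z hzx hz
    have hzP : z ∈ P.1 := hzx.mem_open P.1.2 hxP
    rw [hD₁, hD₂, germ_phi (hP.trans inf_le_right) hz hzP hηW, germ_phi (hP.trans inf_le_right) hz hzP hηW,
      ← hb₁ z hz hzP, ← hb₂ z hz hzP]
    exact ⟨TopCat.Presheaf.germ_stalkSpecializes_apply _ hxP hzx b₁, TopCat.Presheaf.germ_stalkSpecializes_apply _ hxP hzx b₂⟩
  have hne : ∀ {d : Y.presheaf.stalk (f x)}, IsUnit (σ d) → d ≠ 0 := fun hd h0 => hd.ne_zero (by rw [h0, map_zero])
  have hprod : E₁ * E₂ = (f.stalkMap x).hom (D₁ * D₂) := by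
    refine eq_of_over_max hY hη h fun z hzx hz => ?_
    rw [map_mul, (hval z hzx hz).1, (hval z hzx hz).2, ← phi_specializes hz hzx h]
    change phi f η hz (σ D₁) * _ * _ = phi f η hz (σ (D₁ * D₂))
    rw [map_mul, map_mul]
    linear_combination (phi f η hz (σ D₁) * phi f η hz (σ D₂)) * T.symm_mul i z hz (hzx.mem_open (c.D i).2 hi)
  let _ : Algebra (Y.presheaf.stalk (f x)) (X.presheaf.stalk x) := (f.stalkMap x).hom.toAlgebra
  haveI : Module.Flat (Y.presheaf.stalk (f x)) (X.presheaf.stalk x) := Flat.stalkMap f x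
  haveI : IsLocalHom (algebraMap (Y.presheaf.stalk (f x)) (X.presheaf.stalk x)) :=
    inferInstanceAs (IsLocalHom (f.stalkMap x).hom)
  obtain ⟨a, w, ha, hw, haw⟩ := exists_eq_mul_unit (A := Y.presheaf.stalk (f x)) (B := X.presheaf.stalk x)
    (fun p hp hp1 => isPrime_map hY hfib x p hp hp1) (e := E₁) (e' := E₂) (d := D₁ * D₂)
    (mul_ne_zero (hne (hD₁ ▸ hd₁)) (hne (hD₂ ▸ hd₂))) hprod
  have hσa : IsUnit (σ a) := isUnit_max hY hη h ha
  refine ⟨σ D₁ * ↑hσa.unit⁻¹, (show IsUnit (σ D₁) from hD₁ ▸ hd₁).mul hσa.unit⁻¹.isUnit, i, hi, w, hw,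
    fun z hzx hz => (hσa.map (phi f η hz)).mul_left_cancel ?_⟩
  have h1 := congrArg (X.presheaf.stalkSpecializes hzx).hom haw
  rw [map_mul, (hval z hzx hz).1] at h1
  have h2 : (X.presheaf.stalkSpecializes hzx).hom (algebraMap (Y.presheaf.stalk (f x)) (X.presheaf.stalk x) a) =
      phi f η hz (σ a) := (phi_specializes hz hzx h a).symm
  rw [h2] at h1
  rw [← h1, map_mul]
  have h3 : phi f η hz (σ a) * phi f η hz ↑hσa.unit⁻¹ = 1 := by rw [← map_mul, IsUnit.mul_val_inv, map_one]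
  linear_combination -(phi f η hz (σ D₁) * T.t i z hz (hzx.mem_open (c.D i).2 hi)) * h3

include hY hη in
/-- Rational generators spread to an open neighbourhood. -/
theorem Good.exists_nhds [IsLocallyNoetherian X] [IsLocallyNoetherian Y] [Flat f] {x : X} (h : η ⤳ f x)
    {r : Y.presheaf.stalk η} (hr : Good T r x) (i : c.ι) (hi : x ∈ c.D i) :
    ∃ (V : X.Opens) (v : Γ(X, V)), x ∈ V ∧ V ≤ c.D i ∧ IsUnit v ∧ (∀ p ∈ V, η ⤳ f p) ∧
      ∀ (z : X) (hzV : z ∈ V) (hz : f z = η) (hzi : z ∈ c.D i),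
        X.presheaf.germ V z hzV v = phi f η hz r * T.t i z hz hzi := by
  obtain ⟨wx, hwu, hwt⟩ := hr.all i hi
  obtain ⟨W₀, hxW₀, hW₀⟩ := exists_nhds_max hY hη h
  obtain ⟨W, hxW, hW⟩ := GrothLib.BlowUp.exists_affine_mem_le (W := W₀) (x := f x) hxW₀
  obtain ⟨G, hxG, w, hw⟩ := X.presheaf.germ_exist wx
  obtain ⟨P, hxP, hP⟩ := GrothLib.BlowUp.exists_affine_mem_le (W := c.D i ⊓ f ⁻¹ᵁ W.1 ⊓ G) (x := x) ⟨⟨hi, hxW⟩, hxG⟩
  have hPi : P.1 ≤ c.D i := hP.trans (inf_le_left.trans inf_le_left)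
  have hPW : P.1 ≤ f ⁻¹ᵁ W.1 := hP.trans (inf_le_left.trans inf_le_right)
  have hηW : η ∈ W.1 := h.mem_open W.1.2 hxW
  obtain ⟨d, b, hd, hb⟩ := exists_den hY hη W.2 hηW (fun p hp => hW₀ p (hW hp)) P.2 hPW
    (fun z hz hzP => T.t i z hz (hPi hzP)) (fun z hz hzP => by
      obtain ⟨G, w, hzG, hw⟩ := T.rep i z hz (hPi hzP)
      exact ⟨G, w, hzG, fun z' h' hz' hi' => hw z' h' hz' (hPi hi')⟩)
  obtain ⟨nu, de, hde, hr'⟩ := exists_frac hY W.2 hηW hxW h r
  let φ := (f.appLE W.1 P.1 hPW).hom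
  let s₁ : Γ(X, P.1) := φ nu * b
  let s₂ : Γ(X, P.1) := φ de * φ d * res (hP.trans inf_le_right) w
  have e : X.presheaf.germ P.1 x hxP s₁ = X.presheaf.germ P.1 x hxP s₂ := by
    refine eq_of_over_max hY hη h fun z hzx hz => ?_
    have hzP : z ∈ P.1 := hzx.mem_open P.1.2 hxP
    refine (TopCat.Presheaf.germ_stalkSpecializes_apply _ hxP hzx s₁).trans ?_
    refine Eq.trans ?_ (TopCat.Presheaf.germ_stalkSpecializes_apply _ hxP hzx s₂).symm
    simp only [s₁, s₂, φ, map_mul]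
    rw [hb z hz hzP, ← germ_phi hPW hz hzP hηW, ← germ_phi hPW hz hzP hηW, ← germ_phi hPW hz hzP hηW, ← hr', germ_res]
    have hwz : X.presheaf.germ G z (hP hzP).2 w = phi f η hz r * T.t i z hz (hPi hzP) := by
      rw [← hwt z hzx hz, ← hw]
      exact (TopCat.Presheaf.germ_stalkSpecializes_apply _ hxG hzx w).symm
    rw [hwz, map_mul]
    ring
  obtain ⟨U, hxU, i₁, i₂, hU⟩ := X.presheaf.germ_eq x hxP hxP _ _ e
  have hxb : x ∈ X.basicOpen w := (X.mem_basicOpen w x hxG).2 (by rw [hw]; exact hwu)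
  let V : X.Opens := U ⊓ X.basicOpen w
  have hVP : V ≤ P.1 := inf_le_left.trans i₁.le
  refine ⟨V, res (inf_le_right.trans (X.basicOpen_le w)) w, ⟨hxU, hxb⟩, hVP.trans hPi, ?_,
    fun p hp => hW₀ _ (hW (hPW (hVP hp))), fun z hzV hz hzi => ?_⟩
  · rw [← res_res (X.basicOpen_le w) (inf_le_right : V ≤ X.basicOpen w)]
    exact (RingedSpace.isUnit_res_basicOpen X.toRingedSpace w).map _
  · have hzP : z ∈ P.1 := hVP hzV
    have h1 := congrArg (X.presheaf.germ U z hzV.1).hom hU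
    rw [TopCat.Presheaf.germ_res_apply, TopCat.Presheaf.germ_res_apply] at h1
    simp only [s₁, s₂, φ, map_mul] at h1
    rw [hb z hz hzP, ← germ_phi hPW hz hzP hηW, ← germ_phi hPW hz hzP hηW, ← germ_phi hPW hz hzP hηW, ← hr', germ_res,
      map_mul] at h1
    rw [germ_res]
    refine ((hde.map (phi f η hz)).mul (hd.map (phi f η hz))).mul_left_cancel ?_
    linear_combination -h1

end GrothLib.LBDesc26
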