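import Groth.Agent.Lib.LBDesc26.Good
import Groth.Agent.Lib.PicCoc26.Basic
import Groth.Agent.Lib.Cube.Trivs

/-!
# Descent of line bundles trivial over maximal points of a normal base
-/

set_option autoImplicit false
set_option backward.isDefEq.respectTransparency false
set_option backward.isDefEq.respectTransparency.types false
set_option linter.all false
set_option synthInstance.maxHeartbeats 200000

universe u

open CategoryTheory AlgebraicGeometry TopologicalSpace IsLocalRing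
open GrothLib.CartierDescent GrothLib.Ample

noncomputable section

namespace GrothLib.LBDesc26

variable {X Y : Scheme.{u}} {f : X ⟶ Y} {c : Cocycle X} {η : Y} {T : Frame f c η}
variable (hY : Pi1.IsNormalScheme Y) (hη : IsMax η)
  (hfib : ∀ y : ↥Y, ringKrullDim ↑(Y.presheaf.stalk y) = 1 → IsIntegral (f.fiber y))

include hY hη in
theorem isOpen_good [IsLocallyNoetherian X] [IsLocallyNoetherian Y] [Flat f] (r : Y.presheaf.stalk η) :
    IsOpen {x : X | η ⤳ f x ∧ Good T r x} := by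
  refine isOpen_iff_forall_mem_open.2 fun x hx => ?_
  obtain ⟨h, hr⟩ := hx
  obtain ⟨i, hi⟩ := c.exists_mem x
  obtain ⟨V, v, hxV, hVi, hv, hVη, hvt⟩ := hr.exists_nhds hY hη h i hi
  refine ⟨V, fun p hp => ⟨hVη p hp, hr.1, i, hVi hp, X.presheaf.germ V p hp v, hv.map _, fun z hzp hz => ?_⟩, V.2, hxV⟩
  refine (TopCat.Presheaf.germ_stalkSpecializes_apply _ hp hzp v).trans ?_
  exact hvt z (hzp.mem_open V.2 hp) hz (hzp.mem_open (c.D i).2 (hVi hp))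

include hY hη hfib in
/-- A rational generator works over a neighbourhood of a point of the base. -/
theorem exists_nhds_base [IsLocallyNoetherian X] [IsLocallyNoetherian Y] [Flat f] [Surjective f]
    (hf : QuasiCompact f ∨ IsOpenMap f) {y : Y} (h : η ⤳ y) :
    ∃ (W : Y.Opens) (r : Y.presheaf.stalk η), y ∈ W ∧ (∀ p ∈ W, η ⤳ p) ∧
      ∀ x : X, f x ∈ W → Good T r x := by
  obtain ⟨x₀, rfl⟩ := f.surjective y
  obtain ⟨r, hr⟩ := exists_good (T := T) hY hη hfib h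
  obtain ⟨W₀, hxW₀, hW₀⟩ := exists_nhds_max hY hη h
  obtain ⟨W₁, hxW₁, hW₁⟩ := GrothLib.BlowUp.exists_affine_mem_le (W := W₀) (x := f x₀) hxW₀
  have hsp : ∀ p ∈ W₁.1, η ⤳ p := fun p hp => hW₀ p (hW₁ hp)
  let O : X.Opens := ⟨{x : X | η ⤳ f x ∧ Good T r x}, isOpen_good hY hη r⟩
  rcases hf with hf | hf
  · -- closures of the images of the finitely many worst points
    have hcov : (f ⁻¹' (W₁.1 : Set Y)) ⊆ ⋃ P : {P : X.affineOpens // P.1 ≤ f ⁻¹ᵁ W₁.1}, (P.1.1 : Set X) := by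
      intro x hx
      obtain ⟨P, hxP, hP⟩ := GrothLib.BlowUp.exists_affine_mem_le (W := f ⁻¹ᵁ W₁.1) (x := x) hx
      exact Set.mem_iUnion.2 ⟨⟨P, hP⟩, hxP⟩
    haveI := hf
    obtain ⟨F, hF⟩ := (QuasiCompact.isCompact_preimage (f := f) (W₁.1 : Set Y) W₁.1.2 W₁.2.isCompact).elim_finite_subcover
      (fun P : {P : X.affineOpens // P.1 ≤ f ⁻¹ᵁ W₁.1} => (P.1.1 : Set X)) (fun P => P.1.1.2) hcov
    have hloc : ∀ P : {P : X.affineOpens // P.1 ≤ f ⁻¹ᵁ W₁.1}, ∃ Z : Set Y, IsClosed Z ∧ f x₀ ∉ Z ∧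
        ∀ x ∈ P.1.1, x ∉ O → f x ∈ Z := by
      intro P
      haveI : NoetherianSpace P.1.1 := by
        haveI : IsNoetherianRing Γ(X, P.1.1) := IsLocallyNoetherian.component_noetherian P.1
        exact noetherianSpace_of_isAffineOpen P.1.1 P.1.2
      have hcl : IsClosed (Subtype.val ⁻¹' (O : Set X)ᶜ : Set P.1.1) := O.2.isClosed_compl.preimage continuous_subtype_val
      obtain ⟨S, hSfin, hSirr, hS⟩ := NoetherianSpace.exists_finite_set_closeds_irreducible (⟨_, hcl⟩ : Closeds P.1.1)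
      choose g hg using fun C : {C // C ∈ S} => QuasiSober.sober (hSirr C.1 C.2) C.1.isClosed
      haveI := hSfin.to_subtype
      refine ⟨⋃ C, closure {f (g C).1}, isClosed_iUnion_of_finite fun _ => isClosed_closure, fun hm => ?_, fun x hxP hxO => ?_⟩
      · obtain ⟨C, hC⟩ := Set.mem_iUnion.1 hm
        have hgs : f (g C).1 ⤳ f x₀ := specializes_iff_mem_closure.2 hC
        obtain ⟨z, hz, hfz⟩ := exists_over_of_specializes hgs
        have hgO : (g C).1 ∈ (O : Set X)ᶜ := by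
          have : C.1 ≤ (⟨_, hcl⟩ : Closeds P.1.1) := hS ▸ le_sSup C.2
          exact this (hg C).mem
        refine hgO ⟨hsp _ (P.2 (g C).2), ?_⟩
        exact (hr.generalize hz).of_good hY hη hfib hfz.symm (hfz.symm ▸ hsp _ (P.2 (g C).2))
          (exists_good (T := T) hY hη hfib (hsp _ (P.2 (g C).2))).choose_spec
      · have hx : (⟨x, hxP⟩ : P.1.1) ∈ ⋃ C ∈ S, (C : Set P.1.1) := by
          have hcl2 : IsClosed (⋃ C ∈ S, (C : Set P.1.1)) := hSfin.isClosed_biUnion fun C _ => C.isClosed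
          have h1 : (⟨_, hcl⟩ : Closeds P.1.1) ≤ ⟨_, hcl2⟩ := hS ▸ sSup_le fun C hC =>
            Set.subset_biUnion_of_mem (u := fun C : Closeds P.1.1 => (C : Set P.1.1)) hC
          exact h1 hxO
        obtain ⟨C, hC, hxC⟩ := Set.mem_iUnion₂.1 hx
        refine Set.mem_iUnion.2 ⟨⟨C, hC⟩, specializes_iff_mem_closure.1 ?_⟩
        exact (((hg ⟨C, hC⟩).specializes hxC).map continuous_subtype_val).map f.continuous
    choose Z hZ hxZ hZO using hloc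
    have hZc : IsClosed (⋃ P ∈ F, Z P) := F.finite_toSet.isClosed_biUnion fun P _ => hZ P
    refine ⟨W₁.1 ⊓ ⟨_, hZc.isOpen_compl⟩, r, ⟨hxW₁, fun hm => ?_⟩, fun p hp => hsp p hp.1, fun x hx => ?_⟩
    · obtain ⟨P, -, hP⟩ := Set.mem_iUnion₂.1 hm
      exact hxZ P hP
    · by_contra hng
      obtain ⟨P, hPF, hxP⟩ := Set.mem_iUnion₂.1 (hF (show x ∈ f ⁻¹' (W₁.1 : Set Y) from hx.1))
      exact hx.2 (Set.mem_iUnion₂.2 ⟨P, hPF, hZO P x hxP fun hO => hng hO.2⟩)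
  · refine ⟨W₁.1 ⊓ ⟨_, hf _ O.2⟩, r, ⟨hxW₁, ⟨x₀, ⟨h, hr⟩, rfl⟩⟩, fun p hp => hsp p hp.1, fun x hx => ?_⟩
    obtain ⟨x', hx', e⟩ := hx.2
    exact hx'.2.of_good hY hη hfib e.symm (e.symm ▸ hsp _ hx.1)
      (exists_good (T := T) hY hη hfib (hsp _ hx.1)).choose_spec

include hY hη in
/-- The generating section. -/
theorem exists_section [IsLocallyNoetherian X] [IsLocallyNoetherian Y] [Flat f] {W : Y.Opens}
    {r : Y.presheaf.stalk η} (hW : ∀ p ∈ W, η ⤳ p) (hr : ∀ x : X, f x ∈ W → Good T r x) (i : c.ι) :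
    ∃ v : Γ(X, f ⁻¹ᵁ W ⊓ c.D i), IsUnit v ∧ ∀ (z : X) (hzV : z ∈ f ⁻¹ᵁ W ⊓ c.D i) (hz : f z = η),
      X.presheaf.germ (f ⁻¹ᵁ W ⊓ c.D i) z hzV v = phi f η hz r * T.t i z hz hzV.2 := by
  let O : X.Opens := f ⁻¹ᵁ W ⊓ c.D i
  choose V v hxV hVi hv hVη hvt using fun x : O => (hr x.1 x.2.1).exists_nhds hY hη (hW _ x.2.1) i x.2.2
  obtain ⟨t, ht⟩ := Cube.exists_glue (fun x : O => V x ⊓ O) (O := O) (fun _ => inf_le_right)
    (fun x hx => Opens.mem_iSup.2 ⟨⟨x, hx⟩, hxV ⟨x, hx⟩, hx⟩) (fun x => res inf_le_left (v x)) fun a b => by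
      refine section_ext hY hη (V := (V a ⊓ O) ⊓ (V b ⊓ O)) (fun p hp => hW _ hp.1.2.1) fun z hzV hz => ?_
      simp only [germ_res]
      rw [hvt a z hzV.1.1 hz hzV.1.2.2, hvt b z hzV.2.1 hz hzV.1.2.2]
  have hgerm : ∀ (x : O) (p : X) (hp : p ∈ V x ⊓ O),
      X.presheaf.germ O p hp.2 t = X.presheaf.germ (V x) p hp.1 (v x) := fun x p hp => by
    have := congrArg (X.presheaf.germ (V x ⊓ O) p hp).hom (ht x)
    rwa [germ_res, germ_res] at this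
  refine ⟨t, RingedSpace.isUnit_of_isUnit_germ X.toRingedSpace O t fun x hx => ?_, fun z hzV hz => ?_⟩
  · show IsUnit (X.presheaf.germ O x hx t)
    rw [hgerm ⟨x, hx⟩ x ⟨hxV ⟨x, hx⟩, hx⟩]
    exact (hv _).map _
  · rw [hgerm ⟨z, hzV⟩ z ⟨hxV ⟨z, hzV⟩, hzV⟩]
    exact hvt _ z (hxV _) hz hzV.2

/-- `v` is a system of sections over `W` equal to `r` times the trivialisation. -/
def IsGenSys (T : Frame f c η) (W : Y.Opens) (v : ∀ i, Γ(X, f ⁻¹ᵁ W ⊓ c.D i)) (r : Y.presheaf.stalk η) : Prop :=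
  (∀ i, IsUnit (v i)) ∧ (∀ p ∈ W, η ⤳ p) ∧ IsUnit r ∧ (∀ x : X, f x ∈ W → Good T r x) ∧
    ∀ (i : c.ι) (z : X) (hzV : z ∈ f ⁻¹ᵁ W ⊓ c.D i) (hz : f z = η),
      X.presheaf.germ (f ⁻¹ᵁ W ⊓ c.D i) z hzV (v i) = phi f η hz r * T.t i z hz hzV.2

include hY hη hfib in
theorem exists_genSys [IsLocallyNoetherian X] [IsLocallyNoetherian Y] [Flat f] [Surjective f]
    (hf : QuasiCompact f ∨ IsOpenMap f) {y : Y} (h : η ⤳ y) :
    ∃ (W : Y.Opens) (v : ∀ i, Γ(X, f ⁻¹ᵁ W ⊓ c.D i)) (r : Y.presheaf.stalk η), y ∈ W ∧ IsGenSys T W v r := by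
  obtain ⟨W, r, hyW, hW, hr⟩ := exists_nhds_base (T := T) hY hη hfib hf h
  choose v hv hvt using fun i => exists_section (T := T) hY hη hW hr i
  obtain ⟨x, rfl⟩ := f.surjective y
  exact ⟨W, v, r, hyW, hv, hW, (hr x hyW).1, hr, hvt⟩

include hY hη in
theorem IsGenSys.compat [IsLocallyNoetherian X] [Flat f] {W : Y.Opens} {v : ∀ i, Γ(X, f ⁻¹ᵁ W ⊓ c.D i)}
    {r : Y.presheaf.stalk η} (hv : IsGenSys T W v r) (i k : c.ι) {O : X.Opens}
    (hi : O ≤ f ⁻¹ᵁ W ⊓ c.D i) (hk : O ≤ f ⁻¹ᵁ W ⊓ c.D k) :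
    res hi (v i) = c.G i k (hi.trans inf_le_right) (hk.trans inf_le_right) * res hk (v k) := by
  refine section_ext hY hη (fun p hp => hv.2.1 _ (hi hp).1) fun z hzO hz => ?_
  rw [map_mul, Cocycle.G, germ_res, germ_res, germ_res, hv.2.2.2.2 i z (hi hzO) hz, hv.2.2.2.2 k z (hk hzO) hz,
    T.compat i k z hz (hi hzO).2 (hk hzO).2]
  ring

/-- A section comparing two systems. -/
def IsRatio {W W' : Y.Opens} (v : ∀ i, Γ(X, f ⁻¹ᵁ W ⊓ c.D i)) (v' : ∀ i, Γ(X, f ⁻¹ᵁ W' ⊓ c.D i))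
    {N : Y.Opens} (hN : N ≤ W) (hN' : N ≤ W') (s : Γ(Y, N)) : Prop :=
  ∀ (x : X) (hx : f x ∈ N) (i : c.ι) (hi : x ∈ c.D i),
    (f.stalkMap x).hom (Y.presheaf.germ N (f x) hx s) * X.presheaf.germ (f ⁻¹ᵁ W ⊓ c.D i) x ⟨hN hx, hi⟩ (v i) =
      X.presheaf.germ (f ⁻¹ᵁ W' ⊓ c.D i) x ⟨hN' hx, hi⟩ (v' i)

include hY hη in
theorem exists_local_ratio [IsLocallyNoetherian X] [IsLocallyNoetherian Y] [Flat f] [Surjective f]
    {W W' : Y.Opens} {v : ∀ i, Γ(X, f ⁻¹ᵁ W ⊓ c.D i)} {v' : ∀ i, Γ(X, f ⁻¹ᵁ W' ⊓ c.D i)}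
    {r r' : Y.presheaf.stalk η} (hv : IsGenSys T W v r) (hv' : IsGenSys T W' v' r') {y : Y} (hy : y ∈ W) (hy' : y ∈ W') :
    ∃ (N : Y.Opens) (hN : N ≤ W) (hN' : N ≤ W') (s : Γ(Y, N)), y ∈ N ∧ IsRatio v v' hN hN' s := by
  obtain ⟨x, rfl⟩ := f.surjective y
  obtain ⟨e, he, her⟩ := Good.ratio_self hY hη (hv.2.1 _ hy) (hv.2.2.2.1 x hy) (hv'.2.2.2.1 x hy')
  obtain ⟨N₀, hxN, s, hs⟩ := Y.presheaf.germ_exist e
  refine ⟨N₀ ⊓ (W ⊓ W'), inf_le_right.trans inf_le_left, inf_le_right.trans inf_le_right, res inf_le_left s,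
    ⟨hxN, hy, hy'⟩, fun x' hx' i hi => ?_⟩
  refine eq_of_over_max hY hη (hv.2.1 _ hx'.2.1) fun z hzx hz => ?_
  have hzV : z ∈ f ⁻¹ᵁ W ⊓ c.D i := hzx.mem_open (f ⁻¹ᵁ W ⊓ c.D i).2 ⟨hx'.2.1, hi⟩
  have hzV' : z ∈ f ⁻¹ᵁ W' ⊓ c.D i := hzx.mem_open (f ⁻¹ᵁ W' ⊓ c.D i).2 ⟨hx'.2.2, hi⟩
  rw [map_mul, ← phi_specializes hz hzx (hv.2.1 _ hx'.2.1), germ_res]
  rw [show (X.presheaf.stalkSpecializes hzx).hom (X.presheaf.germ (f ⁻¹ᵁ W ⊓ c.D i) x' ⟨hx'.2.1, hi⟩ (v i)) =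
      X.presheaf.germ _ z hzV (v i) from TopCat.Presheaf.germ_stalkSpecializes_apply _ _ hzx _,
    show (X.presheaf.stalkSpecializes hzx).hom (X.presheaf.germ (f ⁻¹ᵁ W' ⊓ c.D i) x' ⟨hx'.2.2, hi⟩ (v' i)) =
      X.presheaf.germ _ z hzV' (v' i) from TopCat.Presheaf.germ_stalkSpecializes_apply _ _ hzx _,
    hv.2.2.2.2 i z hzV hz, hv'.2.2.2.2 i z hzV' hz, ← her, map_mul, ← hs]
  rw [show (Y.presheaf.stalkSpecializes (hv.2.1 _ hx'.2.1)).hom (Y.presheaf.germ N₀ (f x') hx'.1 s) =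
      Y.presheaf.germ N₀ η ((hv.2.1 _ hx'.2.1).mem_open N₀.2 hx'.1) s from
      TopCat.Presheaf.germ_stalkSpecializes_apply _ _ _ _,
    show (Y.presheaf.stalkSpecializes (hv.2.1 _ hy)).hom (Y.presheaf.germ N₀ (f x) hxN s) =
      Y.presheaf.germ N₀ η ((hv.2.1 _ hy).mem_open N₀.2 hxN) s from
      TopCat.Presheaf.germ_stalkSpecializes_apply _ _ _ _]
  ring

include hY in
theorem IsRatio.unique [Flat f] [Surjective f] {W W' : Y.Opens} {v : ∀ i, Γ(X, f ⁻¹ᵁ W ⊓ c.D i)}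
    {v' : ∀ i, Γ(X, f ⁻¹ᵁ W' ⊓ c.D i)} (hv : ∀ i, IsUnit (v i)) {N N' : Y.Opens} {hN : N ≤ W} {hN' : N ≤ W'}
    {hM : N' ≤ W} {hM' : N' ≤ W'} {s : Γ(Y, N)} {s' : Γ(Y, N')} (h : IsRatio v v' hN hN' s)
    (h' : IsRatio v v' hM hM' s') {y : Y} (hy : y ∈ N) (hy' : y ∈ N') :
    Y.presheaf.germ N y hy s = Y.presheaf.germ N' y hy' s' := by
  obtain ⟨x, rfl⟩ := f.surjective y
  obtain ⟨i, hi⟩ := c.exists_mem x
  have e := (h x hy i hi).trans (h' x hy' i hi).symm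
  have e' := ((hv i).map (X.presheaf.germ (f ⁻¹ᵁ W ⊓ c.D i) x ⟨hN hy, hi⟩).hom).mul_right_cancel e
  let _ : Algebra (Y.presheaf.stalk (f x)) (X.presheaf.stalk x) := (f.stalkMap x).hom.toAlgebra
  haveI : Module.Flat (Y.presheaf.stalk (f x)) (X.presheaf.stalk x) := Flat.stalkMap f x
  haveI : IsLocalHom (algebraMap (Y.presheaf.stalk (f x)) (X.presheaf.stalk x)) :=
    inferInstanceAs (IsLocalHom (f.stalkMap x).hom)
  haveI : Module.FaithfullyFlat (Y.presheaf.stalk (f x)) (X.presheaf.stalk x) :=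
    Module.FaithfullyFlat.of_flat_of_isLocalHom
  exact FaithfulSMul.algebraMap_injective _ (X.presheaf.stalk x) e'

include hY in
theorem exists_ratio [IsLocallyNoetherian X] [IsLocallyNoetherian Y] [Flat f] [Surjective f]
    {W W' : Y.Opens} {v : ∀ i, Γ(X, f ⁻¹ᵁ W ⊓ c.D i)} {v' : ∀ i, Γ(X, f ⁻¹ᵁ W' ⊓ c.D i)}
    {η η' : Y} {hη : IsMax η} {hη' : IsMax η'} (F : ∀ η : Y, IsMax η → Frame f c η)
    {r : Y.presheaf.stalk η} {r' : Y.presheaf.stalk η'}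
    (hv : IsGenSys (F η hη) W v r) (hv' : IsGenSys (F η' hη') W' v' r') :
    ∃ s : Γ(Y, W ⊓ W'), IsRatio v v' inf_le_left inf_le_right s := by
  have hloc : ∀ y : (W ⊓ W' : Y.Opens), ∃ (N : Y.Opens) (hN : N ≤ W) (hN' : N ≤ W') (s : Γ(Y, N)),
      y.1 ∈ N ∧ IsRatio v v' hN hN' s := by
    intro y
    obtain rfl := max_unique hY hη hη' (hv.2.1 _ y.2.1) (hv'.2.1 _ y.2.2)
    exact exists_local_ratio hY hη hv hv' y.2.1 y.2.2
  choose N hN hN' s hyN hs using hloc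
  obtain ⟨t, ht⟩ := Cube.exists_glue N (O := W ⊓ W') (fun a => le_inf (hN a) (hN' a))
    (fun y hy => Opens.mem_iSup.2 ⟨⟨y, hy⟩, hyN ⟨y, hy⟩⟩) s fun a b => by
      refine TopCat.Presheaf.section_ext Y.sheaf _ _ _ fun p hp => ?_
      show Y.presheaf.germ (N a ⊓ N b) p hp (res inf_le_left (s a)) = Y.presheaf.germ (N a ⊓ N b) p hp (res inf_le_right (s b))
      rw [germ_res, germ_res]
      exact (hs a).unique hY hv.1 (hs b) hp.1 hp.2
  refine ⟨t, fun x hx i hi => ?_⟩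
  have e := congrArg (Y.presheaf.germ (N ⟨f x, hx⟩) (f x) (hyN ⟨f x, hx⟩)).hom (ht ⟨f x, hx⟩)
  rw [germ_res] at e
  rw [e]
  exact hs ⟨f x, hx⟩ x (hyN ⟨f x, hx⟩) i hi

include hY in
theorem IsRatio.res_eq [Flat f] [Surjective f] {W W' : Y.Opens} {v : ∀ i, Γ(X, f ⁻¹ᵁ W ⊓ c.D i)}
    {v' : ∀ i, Γ(X, f ⁻¹ᵁ W' ⊓ c.D i)} (hv : ∀ i, IsUnit (v i)) {N : Y.Opens} {hN : N ≤ W} {hN' : N ≤ W'}
    {s s' : Γ(Y, N)} (h : IsRatio v v' hN hN' s) (h' : IsRatio v v' hN hN' s') : s = s' :=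
  TopCat.Presheaf.section_ext Y.sheaf _ _ _ fun y hy => h.unique hY hv h' hy hy

include hY hfib in
/-- A cocycle trivial over the maximal points is a pullback. -/
theorem exists_pull_eq [IsLocallyNoetherian X] [IsLocallyNoetherian Y] [Flat f] [Surjective f]
    (hf : QuasiCompact f ∨ IsOpenMap f) (c : Cocycle X)
    (h : ∀ η : Y, IsMax η → Cube.Triv (c.comap (f.fiberι η))) :
    ∃ d : Cocycle Y, Cube.Eqv (d.comap f) c := by
  classical
  let F : ∀ η : Y, IsMax η → Frame f c η := fun η hη => (exists_frame hY hη (h η hη)).some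
  choose η hη hηy using fun y : Y => exists_max hY y
  choose W v r hyW hv using fun y : Y => exists_genSys (T := F (η y) (hη y)) hY (hη y) hfib hf (hηy y)
  choose ρ hρ using fun p q : Y => exists_ratio hY (hη := hη p) (hη' := hη q) F (hv p) (hv q)
  have hρR : ∀ p q (x : X) (hx : f x ∈ W p ⊓ W q) (i : c.ι) (hi : x ∈ c.D i),
      (f.stalkMap x).hom (Y.presheaf.germ (W p ⊓ W q) (f x) hx (ρ p q)) *
          X.presheaf.germ (f ⁻¹ᵁ W p ⊓ c.D i) x ⟨hx.1, hi⟩ (v p i) =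
        X.presheaf.germ (f ⁻¹ᵁ W q ⊓ c.D i) x ⟨hx.2, hi⟩ (v q i) := fun p q x hx i hi => hρ p q x hx i hi
  have hcoc : PicCoc26.IsCoc ρ := by
    intro p q s O hp hq hs
    refine IsRatio.res_eq hY (hv p).1 (hN := hp) (hN' := hs) (v' := v s) (fun x hx i hi => ?_) (fun x hx i hi => ?_)
    · rw [germ_res]
      exact hρR p s x ⟨hp hx, hs hx⟩ i hi
    · rw [map_mul, map_mul, germ_res, germ_res, mul_comm ((f.stalkMap x).hom _), mul_assoc,
        hρR p q x ⟨hp hx, hq hx⟩ i hi, hρR q s x ⟨hq hx, hs hx⟩ i hi]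
  have h1 : ∀ p, ρ p p = 1 := fun p =>
    IsRatio.res_eq hY (hv p).1 (hρ p p) fun x hx i hi => by rw [map_one, map_one, one_mul]
  let d : Cocycle Y :=
    { ι := Y
      D := W
      g := ρ
      cover := eq_top_iff.2 fun y _ => Opens.mem_iSup.2 ⟨y, hyW y⟩
      self := fun p Q hQ => by rw [h1, map_one]
      change := hcoc }
  refine ⟨d, ?_⟩
  let D₁ : Y × c.ι → X.Opens := fun p => f ⁻¹ᵁ W p.1 ⊓ c.D p.2
  let c₁ : Cocycle X :=
    { ι := Y × c.ι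
      D := D₁
      g := fun p q => c.G p.2 q.2 (inf_le_left.trans inf_le_right) (inf_le_right.trans inf_le_right)
      cover := by
        refine eq_top_iff.2 fun x _ => ?_
        obtain ⟨i, hi⟩ := c.exists_mem x
        exact Opens.mem_iSup.2 ⟨(f x, i), hyW (f x), hi⟩
      self := fun p Q hQ => by rw [c.res_G]; exact c.G_self _ _ _
      change := fun p q s Q hp hq hs => by rw [c.res_G, c.res_G, c.res_G]; exact c.G_trans _ _ _ _ _ _ }
  have hu : ∀ p : Y × c.ι, IsUnit (v p.1 p.2) := fun p => (hv p.1).1 p.2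
  refine (Cube.eqv_of_map (c := c₁) (c' := d.comap f) (fun p : Y × c.ι => p.1) (fun p => inf_le_left)
    (fun p => ((hu p).unit⁻¹).val) (fun p => (hu p).unit⁻¹.isUnit) fun p q O hp hq => ?_).symm.trans
    (Cube.eqv_of_map (c := c₁) (c' := c) (fun p : Y × c.ι => p.2) (fun p => inf_le_right) (fun _ => 1)
      (fun _ => isUnit_one) fun p q O hp hq => ?_)
  · have hG : c₁.G p q hp hq = c.G p.2 q.2 (hp.trans inf_le_right) (hq.trans inf_le_right) :=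
      c.res_G p.2 q.2 (W := D₁ p ⊓ D₁ q) (inf_le_left.trans inf_le_right) (inf_le_right.trans inf_le_right) (le_inf hp hq)
    rw [hG]
    refine (((hu p).map (res hp)).mul ((hu q).map (res hq))).mul_left_cancel ?_
    have e1 : res hp (v p.1 p.2) * res hp ((hu p).unit⁻¹).val = 1 := by rw [← map_mul, IsUnit.mul_val_inv, map_one]
    have e2 : res hq (v q.1 q.2) * res hq ((hu q).unit⁻¹).val = 1 := by rw [← map_mul, IsUnit.mul_val_inv, map_one]
    have key : res hp (v p.1 p.2) * (d.comap f).G p.1 q.1 (hp.trans inf_le_left) (hq.trans inf_le_left) =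
        res hq (v q.1 q.2) * c.G p.2 q.2 (hp.trans inf_le_right) (hq.trans inf_le_right) := by
      have hqp : O ≤ f ⁻¹ᵁ W p.1 ⊓ c.D q.2 := le_inf (hp.trans inf_le_left) (hq.trans inf_le_right)
      rw [(hv p.1).compat hY (hη p.1) p.2 q.2 hp hqp, mul_assoc, mul_comm (res hq _)]
      refine congrArg (c.G p.2 q.2 _ _ * ·) ?_
      refine TopCat.Presheaf.section_ext X.sheaf _ _ _ fun x hx => ?_
      have hxp : f x ∈ W p.1 := (hp hx).1
      have hxq : f x ∈ W q.1 := (hq hx).1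
      have hrw := hρR p.1 q.1 x ⟨hxp, hxq⟩ q.2 (hq hx).2
      show X.presheaf.germ O x hx (res hqp (v p.1 q.2) * (d.comap f).G p.1 q.1 _ _) = X.presheaf.germ O x hx (res hq (v q.1 q.2))
      rw [← d.appLE_G f p.1 q.1 (V := W p.1 ⊓ W q.1) inf_le_left inf_le_right (W := O)
        (le_inf (hp.trans inf_le_left) (hq.trans inf_le_left))]
      rw [map_mul, germ_res, germ_res, ← germ_appLE _ hx]
      erw [germ_res]
      rw [mul_comm]
      exact hrw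
    linear_combination (res hp (v p.1 p.2) * (d.comap f).G p.1 q.1 (hp.trans inf_le_left) (hq.trans inf_le_left)) * e2 -
      (res hq (v q.1 q.2) * c.G p.2 q.2 (hp.trans inf_le_right) (hq.trans inf_le_right)) * e1 + key
  · rw [map_one, map_one, one_mul, mul_one]
    exact (c.res_G p.2 q.2 (W := D₁ p ⊓ D₁ q) (inf_le_left.trans inf_le_right) (inf_le_right.trans inf_le_right) (le_inf hp hq)).symm

end GrothLib.LBDesc26
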